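import Groth.Agent.L16.HomSh.Adjunction
import Groth.Agent.L14.LocHilb.Push
import Groth.Agent.L16.PushEdge
import Groth.Agent.L10.TopCoh
import Groth.Agent.L16.CohLinear

/-! # Homomorphisms from the ideal to the quotient as a pushforward of the normal sheaf -/

set_option autoImplicit false
set_option linter.style.haveILetI false
set_option linter.unusedSectionVars false
set_option backward.isDefEq.respectTransparency.types false
set_option backward.isDefEq.respectTransparency false

universe u

open CategoryTheory CategoryTheory.Limits AlgebraicGeometry TopologicalSpace Opposite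

noncomputable section

namespace Groth.L14.LocHilbLift

open Groth.L16.HomSh
open Groth.L00.Tensor (tensorLeftF tensorMap)

variable {X Y : Scheme.{u}} (g : X ⟶ Y)

/-- Pullback commutes with tensoring. -/
def pullLeftIso (M : Y.Modules) :
    Scheme.Modules.pullback g ⋙ tensorLeftF ((Scheme.Modules.pullback g).obj M) ≅
      tensorLeftF M ⋙ Scheme.Modules.pullback g :=
  NatIso.ofComponents (fun P => Groth.L29.DC.PullTensor.pullTensor g M P) fun {P P'} h => by
    have := Groth.L29.DC.PullTensor.pullTensor_natural g (𝟙 M) h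
    rw [CategoryTheory.Functor.map_id] at this
    exact this

/-- `g_* Hom(g^* M, -) ≅ Hom(M, g_* -)`. -/
def pushHomIso (M : Y.Modules) :
    homModF ((Scheme.Modules.pullback g).obj M) ⋙ Scheme.Modules.pushforward g ≅
      Scheme.Modules.pushforward g ⋙ homModF M :=
  ((((Scheme.Modules.pullbackPushforwardAdjunction g).comp
    (tensorHomAdj ((Scheme.Modules.pullback g).obj M))).ofNatIsoLeft (pullLeftIso g M)).rightAdjointUniq
      ((tensorHomAdj M).comp (Scheme.Modules.pullbackPushforwardAdjunction g)))

theorem subsingleton_HH_push [IsClosedImmersion g] (G : X.Modules) (p : ℕ) (h : Subsingleton (Coh.HH X G p)) :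
    Subsingleton (Coh.HH Y ((Scheme.Modules.pushforward g).obj G) p) :=
  (Groth.L16.PushEdge.pushEdge_bijective_of_locAcyclic g G
    (Groth.L10.TopCoh.locAcyclic_of_isClosedEmbedding (X := X.toTopCat) (Y := Y.toTopCat) g.base
      g.isClosedEmbedding (Coh.toAb G)) p).1.subsingleton

theorem subsingleton_HH_of_iso {F G : Y.Modules} (e : F ≅ G) (p : ℕ) (h : Subsingleton (Coh.HH Y F p)) :
    Subsingleton (Coh.HH Y G p) := ⟨fun a b => by
  have hrt : ∀ c, Groth.L16.CohLinear.hmap e.hom p (Groth.L16.CohLinear.hmap e.inv p c) = c := fun c => by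
    rw [← Groth.L16.CohLinear.hmap_comp, e.inv_hom_id, Groth.L16.CohLinear.hmap_id]
  rw [← hrt a, ← hrt b]
  exact congrArg _ (Subsingleton.elim _ _)⟩

theorem nonempty_normalIso [IsClosedImmersion g] [DCoh.HasSheafHom (Omega.conormal g)] :
    Nonempty ((Scheme.Modules.pushforward g).obj ((DCoh.sheafHom (Omega.conormal g)).obj (Coh.structureModule X)) ≅
      homMod (ClSub.idealMod g.ker) (ClSub.quotMod g.ker)) :=
  ⟨(Scheme.Modules.pushforward g).mapIso ((sheafHomIso (Omega.conormal g)).app (Coh.structureModule X)) ≪≫
    (pushHomIso g (ClSub.idealMod g.ker)).app (Coh.structureModule X) ≪≫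
    (homModF (ClSub.idealMod g.ker)).mapIso (asIso (Groth.L14.LocHilb.quotPush g)).symm⟩

theorem subsingleton_HH_homMod [IsClosedImmersion g] [DCoh.HasSheafHom (Omega.conormal g)] (p : ℕ)
    (h : Subsingleton (Coh.HH X ((DCoh.sheafHom (Omega.conormal g)).obj (Coh.structureModule X)) p)) :
    Subsingleton (Coh.HH Y (homMod (ClSub.idealMod g.ker) (ClSub.quotMod g.ker)) p) := by
  obtain ⟨e⟩ := nonempty_normalIso g
  exact subsingleton_HH_of_iso e p (subsingleton_HH_push g _ p h)

end Groth.L14.LocHilbLift
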