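import Groth.Agent.L14.LocHilb.Lift.Lci
import Groth.Agent.L14.LocHilb.Lift.PushHom

/-! # Smoothness of the local Hilbert functor of a regularly embedded subscheme -/

set_option autoImplicit false
set_option linter.style.haveILetI false
set_option linter.unusedSectionVars false
set_option backward.isDefEq.respectTransparency.types false
set_option backward.isDefEq.respectTransparency false

universe u

open CategoryTheory CategoryTheory.Limits AlgebraicGeometry ArtFun ArtFun.Art

noncomputable section

namespace Groth.L14.LocHilbLift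

variable {k : Type u} [Field k] {X : Scheme.{u}} (x : X ⟶ specPt k)

theorem isSmoothFunctor_of_subscheme (I₀ : X.IdealSheafData) (hreg : Mor2.IsRegularClosedImmersion I₀.subschemeι)
    [DCoh.HasSheafHom (Omega.conormal I₀.subschemeι)]
    (h1 : Subsingleton (Coh.HH I₀.subscheme ((DCoh.sheafHom (Omega.conormal I₀.subschemeι)).obj
      (Coh.structureModule I₀.subscheme)) 1)) :
    IsSmoothFunctor (localHilb X x I₀) := by
  refine Groth.L12.isSmoothFunctor_of_small fun B A μ hμ => surjective_map_of_h1 hreg ?_ hμ
  have := subsingleton_HH_homMod I₀.subschemeι 1 h1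
  rwa [Scheme.IdealSheafData.ker_subschemeι] at this

theorem isRegularClosedImmersion_ker {Z : Scheme.{u}} (i : Z ⟶ X) [IsClosedImmersion i]
    (h : Mor2.IsRegularClosedImmersion i) : Mor2.IsRegularClosedImmersion i.ker.subschemeι := by
  refine ⟨inferInstance, fun z => ?_⟩
  obtain ⟨z₀, hz₀⟩ : ∃ z₀, i z₀ = i.ker.subschemeι z := by
    have hz : i.ker.subschemeι z ∈ Set.range i.ker.subschemeι := ⟨z, rfl⟩
    rw [Scheme.IdealSheafData.range_subschemeι, Scheme.Hom.support_ker] at hz
    rwa [i.isClosedEmbedding.isClosed_range.closure_eq] at hz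
  obtain ⟨U, hU, hzU, f, hf, e⟩ := h.2 z₀
  exact ⟨U, hU, hz₀ ▸ hzU, f, hf, by rw [Scheme.IdealSheafData.ker_subschemeι]; exact e⟩

theorem isSmoothFunctor_of_immersion {Z : Scheme.{u}} (i : Z ⟶ X) [IsClosedImmersion i]
    (hreg : Mor2.IsRegularClosedImmersion i) [DCoh.HasSheafHom (Omega.conormal i)]
    (h1 : Subsingleton (Coh.HH Z ((DCoh.sheafHom (Omega.conormal i)).obj (Coh.structureModule Z)) 1)) :
    IsSmoothFunctor (localHilb X x i.ker) :=
  Groth.L12.isSmoothFunctor_of_small fun _ _ _ hμ =>
    surjective_map_of_h1 (isRegularClosedImmersion_ker i hreg) (subsingleton_HH_homMod i 1 h1) hμ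

end Groth.L14.LocHilbLift
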