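import Groth.Agent.L14.LocHilb.Lift.MinorLift
import Groth.Agent.L14.LocHilb.Lift.Smooth
import Groth.Agent.S11460
import Mathlib.RingTheory.Ideal.Height

/-! # Local lifts of Cohen–Macaulay subschemes of codimension two -/

set_option autoImplicit false
set_option linter.style.haveILetI false
set_option linter.unusedSectionVars false
set_option backward.isDefEq.respectTransparency.types false
set_option backward.isDefEq.respectTransparency false

universe u

open CategoryTheory CategoryTheory.Limits AlgebraicGeometry TopologicalSpace Opposite ArtFun ArtFun.Art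

noncomputable section

namespace Groth.L14.LocHilbLift

open Groth.L14.LocTriv (R rB red res vOf cU)
open Groth.L14.LocHilb (trivXA)

variable {k : Type u} [Field k] {X : Scheme.{u}} {x : X ⟶ specPt k} {I₀ : X.IdealSheafData}

theorem flat_rB (A : Art k k) (U : X.affineOpens) :
    letI := (rB (trivXA (x := x) A) U.1).toAlgebra
    Module.Flat A (R (trivXA (x := x) A) U.1) :=
  Groth.L14.LocTriv.rB_flat _ U

theorem finiteType_rB [LocallyOfFiniteType x] (A : Art k k) (U : X.affineOpens) :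
    (rB (trivXA (x := x) A) U.1).FiniteType := by
  haveI : LocallyOfFiniteType (XApr x A) :=
    MorphismProperty.pullback_snd (P := @LocallyOfFiniteType) _ _ inferInstance
  have h1 : ((XApr x A).appLE ⊤ (vOf (trivXA (x := x) A) U.1) le_top).hom.FiniteType :=
    HasRingHomProperty.appLE (P := @LocallyOfFiniteType) (XApr x A) inferInstance ⟨⊤, isAffineOpen_top _⟩
      ⟨_, Groth.L14.LocTriv.isAffineOpen_vOf _ U⟩ le_top
  exact RingHom.FiniteType.comp h1 (RingHom.FiniteType.of_surjective _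
    (ConcreteCategory.bijective_of_isIso (Scheme.ΓSpecIso (CommRingCat.of A)).inv).2)

theorem smooth_cU [Smooth x] (U : X.affineOpens) : (cU x U.1).Smooth := by
  have h1 : (x.appLE ⊤ U.1 le_top).hom.Smooth :=
    HasRingHomProperty.appLE (P := @Smooth) x inferInstance ⟨⊤, isAffineOpen_top _⟩ U le_top
  exact RingHom.Smooth.respectsIso.2 (x.appLE ⊤ U.1 le_top).hom
    (Scheme.ΓSpecIso (CommRingCat.of k)).symm.commRingCatIsoToRingEquiv h1

theorem smooth_fibre [Smooth x] (A : Art k k) (U : X.affineOpens) :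
    letI := (rB (trivXA (x := x) A) U.1).toAlgebra
    Algebra.Smooth (A ⧸ IsLocalRing.maximalIdeal A)
      (R (trivXA (x := x) A) U.1 ⧸ (IsLocalRing.maximalIdeal A).map (algebraMap A (R (trivXA (x := x) A) U.1))) := by
  letI := (rB (trivXA (x := x) A) U.1).toAlgebra
  have hkA : RingHom.ker A.res.toRingHom = IsLocalRing.maximalIdeal A :=
    Ideal.ext fun a => RingHom.mem_ker.trans (Art.mem_maximalIdeal_iff A a).symm
  have hkR : RingHom.ker (red (trivXA (x := x) A) U.1) =
      (IsLocalRing.maximalIdeal A).map (algebraMap A (R (trivXA (x := x) A) U.1)) :=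
    Ideal.ext fun r => RingHom.mem_ker.trans (Groth.L14.LocTriv.red_eq_zero_iff _ U r)
  let eA : (A ⧸ IsLocalRing.maximalIdeal A) ≃+* k :=
    (Ideal.quotEquivOfEq hkA.symm).trans (RingHom.quotientKerEquivOfSurjective A.res_surjective)
  let eR : (R (trivXA (x := x) A) U.1 ⧸ (IsLocalRing.maximalIdeal A).map (algebraMap A (R (trivXA (x := x) A) U.1)))
      ≃+* Γ(X, U.1) :=
    (Ideal.quotEquivOfEq hkR.symm).trans
      (RingHom.quotientKerEquivOfSurjective (Groth.L14.LocTriv.red_surjective _ U))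
  have h1 := RingHom.Smooth.respectsIso.2 _ eA (smooth_cU (x := x) U)
  have h2 := RingHom.Smooth.respectsIso.1 _ eR.symm h1
  refine RingHom.smooth_algebraMap.1 ?_
  convert h2 using 1
  refine RingHom.ext fun c => ?_
  obtain ⟨c, rfl⟩ := Ideal.Quotient.mk_surjective c
  refine eR.injective ?_
  show eR _ = eR (eR.symm _)
  rw [RingEquiv.apply_symm_apply]
  exact Groth.L14.LocTriv.red_rB (trivXA (x := x) A) U.1 c

theorem IA_map {B A : Art k k} (p : B ⟶ A) (J : (localHilb X x I₀).obj B) (U : X.affineOpens) :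
    IA x ((localHilb X x I₀).map p J) U = (IA x J U).map (π x p U).hom :=
  Groth.L22.Ideals.comap_ideal (XAmap x p) J.1 ⟨vOf (trivXA (x := x) B) U.1, Groth.L14.LocTriv.isAffineOpen_vOf _ U⟩
    ⟨vOf (trivXA (x := x) A) U.1, Groth.L14.LocTriv.isAffineOpen_vOf _ U⟩ (Groth.L14.DefLift.i_le_of_le (trivXA (x := x) A) (by
      rw [Groth.L14.LocTriv.preimage_vOf, ← Scheme.Hom.comp_preimage,
        show (trivXA (x := x) A).i ≫ XAmap x p = (trivXA (x := x) B).i from XAincl_XAmap x p,
        Groth.L14.LocTriv.preimage_vOf]))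

theorem ker_π {B A : Art k k} (p : B ⟶ A) (U : X.affineOpens) :
    RingHom.ker (π x p U).hom = (RingHom.ker p.toAlgHom.toRingHom).map (rB (trivXA (x := x) B) U.1) := by
  refine le_antisymm (fun r hr => Groth.L14.LocTriv.mem_map_of_hom_eq_zero (spl x B U) (π x p U) hr) ?_
  rw [Ideal.map_le_iff_le_comap]
  intro b hb
  rw [Ideal.mem_comap, RingHom.mem_ker, (π x p U).hom_rB]
  exact (congrArg _ (show p b = 0 from hb)).trans (map_zero _)

theorem codim_of_red {A : Art k k} (U : X.affineOpens) {J : Ideal (R (trivXA (x := x) A) U.1)}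
    (hJ : J.map (red (trivXA (x := x) A) U.1) = I₀.ideal U)
    (hc : ∀ P : Ideal Γ(X, U.1), P.IsPrime → I₀.ideal U ≤ P → (2 : ℕ∞) ≤ P.height)
    (P : Ideal (R (trivXA (x := x) A) U.1)) (hP : P.IsPrime) (hle : J ≤ P) : (2 : ℕ∞) ≤ P.height := by
  let f := red (trivXA (x := x) A) U.1
  have hf : Function.Surjective f := Groth.L14.LocTriv.red_surjective _ U
  have hk : RingHom.ker f ≤ P := by
    obtain ⟨n, hn⟩ := Groth.L14.LocTriv.isNilpotent_ker_red (trivXA (x := x) A) U
    exact hP.le_of_pow_le (n := n) (hn ▸ bot_le)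
  haveI : (P.map f).IsPrime := Ideal.map_isPrime_of_surjective hf hk
  have h1 := hc (P.map f) inferInstance (hJ ▸ Ideal.map_mono hle)
  have e : (P.map f).comap f = P := by
    rw [Ideal.comap_map_of_surjective f hf, sup_eq_left]
    exact hk
  refine h1.trans ?_
  rw [show (P.map f).height = Order.height (⟨P.map f, inferInstance⟩ : PrimeSpectrum Γ(X, U.1)) from
      PrimeSpectrum.height_eq_orderHeight ⟨P.map f, inferInstance⟩,
    show P.height = Order.height (⟨P, hP⟩ : PrimeSpectrum (R (trivXA (x := x) A) U.1)) from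
      PrimeSpectrum.height_eq_orderHeight ⟨P, hP⟩]
  refine (Order.height_le_height_apply_of_strictMono (PrimeSpectrum.comap f) ?_ _).trans (le_of_eq ?_)
  · exact Monotone.strictMono_of_injective (fun a b h => Ideal.comap_mono h)
      (PrimeSpectrum.comap_injective_of_surjective f hf)
  · exact congrArg Order.height (PrimeSpectrum.ext e)

theorem locLift_of_flat {B A : Art k k} {p : B ⟶ A} {t : B} {I : (localHilb X x I₀).obj A} (hg : Gen p t)
    {U : X.affineOpens} (J : Ideal (R (trivXA (x := x) B) U.1)) (hJ : J.map (π x p U).hom = IA x I U)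
    (hflat : ((Ideal.Quotient.mk J).comp (rB (trivXA (x := x) B) U.1)).Flat) :
    Nonempty (LocLift x p t I U) := by
  refine ⟨⟨J, fun z hz => Ideal.mem_comap.2 (hJ ▸ Ideal.mem_map_of_mem _ hz), fun z hz => ?_, fun r hr => ?_⟩⟩
  · obtain ⟨z', hz', e⟩ := (Ideal.mem_map_iff_of_surjective _ (π_surjective x p hg.surj U)).1
      (hJ.ge (Ideal.mem_comap.1 hz))
    obtain ⟨r, hr⟩ := hg.exists_of_π_eq_zero x (r := z - z') (by rw [map_sub, e, sub_self])
    exact ⟨r, by rwa [← hr, sub_sub_cancel]⟩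
  · have h1 : Ideal.Quotient.mk J r ∈
        (IsLocalRing.maximalIdeal B).map ((Ideal.Quotient.mk J).comp (rB (trivXA (x := x) B) U.1)) :=
      Groth.L14.DefLift.mem_map_of_mul_mem _ hflat (J := ⊥) (fun h => hg.ne_zero (Ideal.mem_bot.1 h))
        (fun c hc => Ideal.mem_bot.2 (hg.kill c hc))
        (by
          rw [Ideal.map_bot, Ideal.mem_bot]
          exact (map_mul _ _ _).symm.trans (Ideal.Quotient.eq_zero_iff_mem.2 hr))
    rw [← Ideal.map_map, Ideal.mem_quotient_iff_mem_sup] at h1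
    obtain ⟨a, ha, b, hb, rfl⟩ := Submodule.mem_sup.1 h1
    have key : ∀ c ∈ J, red (trivXA (x := x) B) U.1 c ∈ I₀.ideal U := fun c hc =>
      red_mem (Ideal.mem_comap.2 (hJ ▸ Ideal.mem_map_of_mem _ hc) : c ∈ pid x p I U)
    rw [map_add]
    first
      | (rw [(Groth.L14.LocTriv.red_eq_zero_iff _ U a).2 ha, zero_add]; exact key b hb)
      | (rw [(Groth.L14.LocTriv.red_eq_zero_iff _ U b).2 hb, add_zero]; exact key a ha)

section Pres

variable [Smooth x] (U : X.affineOpens) {r : ℕ} (φ : Matrix (Fin (r + 1)) (Fin r) Γ(X, U.1))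

/-- All flat deformations over `A` have a determinantal presentation on `U`. -/
def Good (A : Art k k) : Prop :=
  ∀ I : (localHilb X x I₀).obj A, ∃ Φ : Matrix (Fin (r + 1)) (Fin r) (R (trivXA (x := x) A) U.1),
    IsHB Φ ∧ IA x I U = mnrIdeal Φ

variable {U φ}

theorem good_base (hφ : IsHB φ) (hI : I₀.ideal U = mnrIdeal φ) :
    Good (x := x) (I₀ := I₀) (r := r) U (Art.base k k) := by
  intro I
  have hm : IsLocalRing.maximalIdeal (Art.base k k) = ⊥ := (Submodule.eq_bot_iff _).2 fun a ha =>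
    (Art.mem_maximalIdeal_iff (Art.base k k) a).1 ha
  have hinj : Function.Injective (red (trivXA (x := x) (Art.base k k)) U.1) := by
    rw [injective_iff_map_eq_zero]
    intro a ha
    rw [Groth.L14.LocTriv.red_eq_zero_iff, hm, Ideal.map_bot, Ideal.mem_bot] at ha
    exact ha
  let e := RingEquiv.ofBijective _ ⟨hinj, Groth.L14.LocTriv.red_surjective (trivXA (x := x) (Art.base k k)) U⟩
  refine ⟨φ.map e.symm.toRingHom, hφ.map_equiv e.symm, ?_⟩
  have h1 : (IA x I U).map e.toRingHom = mnrIdeal φ := (ideal_I₀ x I U).symm.trans hI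
  rw [← map_mnrIdeal, ← h1, Ideal.map_map,
    show e.symm.toRingHom.comp e.toRingHom = RingHom.id _ from RingHom.ext e.symm_apply_apply, Ideal.map_id]

theorem exists_isHB_step {B A : Art k k} (p : B ⟶ A) (hp : IsSemismallExt p) (I : (localHilb X x I₀).obj A)
    {Φ : Matrix (Fin (r + 1)) (Fin r) (R (trivXA (x := x) A) U.1)} (h : IsHB Φ) (hI : IA x I U = mnrIdeal Φ) :
    (∀ J, (localHilb X x I₀).map p J = I →
      (∀ P : Ideal Γ(X, U.1), P.IsPrime → I₀.ideal U ≤ P → (2 : ℕ∞) ≤ P.height) →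
      ∃ Φ' : Matrix (Fin (r + 1)) (Fin r) (R (trivXA (x := x) B) U.1), IsHB Φ' ∧ IA x J U = mnrIdeal Φ') ∧
    ∃ J : Ideal (R (trivXA (x := x) B) U.1), J.map (π x p U).hom = IA x I U ∧
      ((Ideal.Quotient.mk J).comp (rB (trivXA (x := x) B) U.1)).Flat := by
  letI := (rB (trivXA (x := x) B) U.1).toAlgebra
  haveI := flat_rB (x := x) B U
  haveI : Algebra.FiniteType B (R (trivXA (x := x) B) U.1) := finiteType_rB (x := x) B U
  haveI := smooth_fibre (x := x) B U
  have hne : RingHom.ker p.toAlgHom.toRingHom ≠ ⊤ := RingHom.ker_ne_top _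
  have hker : RingHom.ker (π x p U).hom =
      (RingHom.ker p.toAlgHom.toRingHom).map (algebraMap B (R (trivXA (x := x) B) U.1)) := ker_π p U
  have hπ := π_surjective x p hp.1 U
  have hfl : ((Ideal.Quotient.mk (mnrIdeal Φ)).comp (rB (trivXA (x := x) A) U.1)).Flat := hI ▸ flat_IA x I U
  refine ⟨fun J hJ hc => ?_, ?_⟩
  · haveI : Module.Flat B (R (trivXA (x := x) B) U.1 ⧸ IA x J U) := flat_IA x J U
    obtain ⟨Φ', -, h1, h2⟩ := exists_isHB_lift p.toAlgHom.toRingHom hp.1 hp.2 hne (π x p U).hom hπ hker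
      (rB (trivXA (x := x) A) U.1) (π x p U).hom_rB h hfl
      (codim_of_red U (by rw [← hI]; exact (ideal_I₀ x I U).symm) hc) (IA x J U)
      (by rw [← IA_map, hJ, hI])
    exact ⟨Φ', h1, h2⟩
  · obtain ⟨Φ', hΦ'⟩ : ∃ Φ' : Matrix (Fin (r + 1)) (Fin r) (R (trivXA (x := x) B) U.1), Φ'.map (π x p U).hom = Φ :=
      ⟨Matrix.of fun i j => (hπ (Φ i j)).choose, Matrix.ext fun i j => (hπ (Φ i j)).choose_spec⟩
    obtain ⟨-, h2⟩ := isHB_lift p.toAlgHom.toRingHom hp.1 hp.2 hne (π x p U).hom hπ hker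
      (rB (trivXA (x := x) A) U.1) (π x p U).hom_rB (hΦ'.symm ▸ h) (hΦ'.symm ▸ hfl)
    exact ⟨mnrIdeal Φ', by rw [map_mnrIdeal, hΦ', hI], h2⟩

theorem good (hφ : IsHB φ) (hI : I₀.ideal U = mnrIdeal φ)
    (hc : ∀ P : Ideal Γ(X, U.1), P.IsPrime → I₀.ideal U ≤ P → (2 : ℕ∞) ≤ P.height) (A : Art k k) :
    Good (x := x) (I₀ := I₀) (r := r) U A := by
  refine Groth.L12.surjective_induction
    (fun A B _ => Good (x := x) (I₀ := I₀) (r := r) U A → Good (x := x) (I₀ := I₀) (r := r) U B)
    ?_ ?_ ?_ (toBase A) A.res_surjective (good_base hφ hI)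
  · intro A B e he hA J
    haveI := he
    have hinj : Function.Injective e := fun a b hab => by
      have h1 := congrArg (inv e) hab
      have h2 : ∀ z, (inv e) (e z) = z := fun z => congrArg (fun g : B ⟶ B => g z) (IsIso.hom_inv_id e)
      rwa [h2, h2] at h1
    have hsurj : Function.Surjective e := fun a =>
      ⟨(inv e) a, congrArg (fun g : A ⟶ A => g a) (IsIso.inv_hom_id e)⟩
    have hk : RingHom.ker e.toAlgHom = ⊥ := (RingHom.injective_iff_ker_eq_bot _).1 hinj
    obtain ⟨Φ, h1, h2⟩ := hA ((localHilb X x I₀).map e J)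
    exact (exists_isHB_step e ⟨hsurj, by rw [hk, Ideal.mul_bot]⟩ _ h1 h2).1 J rfl hc
  · intro A B p hp hA J
    obtain ⟨Φ, h1, h2⟩ := hA ((localHilb X x I₀).map p J)
    exact (exists_isHB_step p hp.isSemismallExt _ h1 h2).1 J rfl hc
  · intro A B C p q hp hq hA
    exact hp (hq hA)

theorem nonempty_locLift_of_hb {B A : Art k k} {p : B ⟶ A} {t : B} {I : (localHilb X x I₀).obj A} (hg : Gen p t)
    (hsmall : IsSmallExt p) (hφ : IsHB φ) (hI : I₀.ideal U = mnrIdeal φ)
    (hc : ∀ P : Ideal Γ(X, U.1), P.IsPrime → I₀.ideal U ≤ P → (2 : ℕ∞) ≤ P.height) :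
    Nonempty (LocLift x p t I U) := by
  obtain ⟨Φ, h1, h2⟩ := good hφ hI hc A I
  obtain ⟨-, J, hJ, hflat⟩ := exists_isHB_step p hsmall.isSemismallExt I h1 h2
  exact locLift_of_flat hg J hJ hflat

end Pres

end Groth.L14.LocHilbLift
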