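import Groth.Agent.L14.LocHilb.Lift.Codim2

/-! # Smoothness of the local Hilbert functor of a Cohen–Macaulay subscheme of codimension two -/

set_option autoImplicit false
set_option linter.style.haveILetI false
set_option linter.unusedSectionVars false
set_option backward.isDefEq.respectTransparency.types false
set_option backward.isDefEq.respectTransparency false

universe u

open CategoryTheory CategoryTheory.Limits AlgebraicGeometry TopologicalSpace Opposite ArtFun ArtFun.Art

noncomputable section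

namespace Groth.L14.LocHilbLift

variable {k : Type u} [Field k] {X : Scheme.{u}} {x : X ⟶ specPt k}

theorem surjective_map_of_locLift {I₀ : X.IdealSheafData} {B A : Art k k} {p : B ⟶ A} (hp : IsSmallExt p)
    (h1 : Subsingleton (Coh.HH X (Groth.L16.HomSh.homMod (ClSub.idealMod I₀) (ClSub.quotMod I₀)) 1))
    (hloc : ∀ (t : B), Gen p t → ∀ (I : (localHilb X x I₀).obj A) (y : X),
      ∃ U : X.affineOpens, y ∈ U.1 ∧ Nonempty (LocLift x p t I U)) :
    Function.Surjective ((localHilb X x I₀).map p) := by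
  intro I
  obtain ⟨t, hg⟩ := exists_gen hp
  obtain ⟨ψ, hψ⟩ := exists_extension_of_local (ClSub.quotMod I₀) (kernel.condition (redM x p I))
    (fun U => redM_surjective hg U)
    (fun U m hm => ⟨_, _root_.OmegaSh.ι_kerLift (redM x p I) U.1 m hm⟩) h1 (mu x I hg) fun y => by
      obtain ⟨U, hyU, ⟨L⟩⟩ := hloc t hg I y
      exact ⟨U.1, hyU, L.exists_sec hg⟩
  exact exists_map_eq_of_psi x hg ψ hψ

theorem isSmoothFunctor_of_codim_two [Smooth x] {Z : Scheme.{u}} (i : Z ⟶ X) [IsClosedImmersion i]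
    (hCM : ∀ z : Z, LocCoh.IsCohenMacaulayLocalRing (Z.presheaf.stalk z))
    (hcodim : ∀ z : Z, ringKrullDim (Z.presheaf.stalk z) + 2 = ringKrullDim (X.presheaf.stalk (i.base z)))
    (h1 : Subsingleton (Coh.HH X (Groth.L16.HomSh.homMod (ClSub.idealMod i.ker) (ClSub.quotMod i.ker)) 1)) :
    IsSmoothFunctor (localHilb X x i.ker) := by
  refine Groth.L12.isSmoothFunctor_of_small fun B A p hp => surjective_map_of_locLift hp h1 fun t hg I y => ?_
  have hrange : Set.range i.ker.subschemeι = Set.range i := by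
    rw [Scheme.IdealSheafData.range_subschemeι, Scheme.Hom.support_ker]
    exact i.isClosedEmbedding.isClosed_range.closure_eq
  by_cases hy : y ∈ Set.range i
  · obtain ⟨z, rfl⟩ := hy
    obtain ⟨U, hzU, r, φ, hI, hinj, hex⟩ := Groth.Agent.S11460.result k X Z x i hCM hcodim z
    refine ⟨U, hzU, nonempty_locLift_of_hb hg hp (φ := φ) ⟨hinj, hex⟩ hI.symm fun P hP hle => ?_⟩
    haveI := hP
    let q : X := U.2.fromSpec ⟨P, hP⟩
    have hqU : q ∈ U.1 := by
      have h2 : q ∈ Set.range U.2.fromSpec := ⟨_, rfl⟩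
      rwa [U.2.range_fromSpec] at h2
    have hq : q ∈ (i.ker.support : Set X) := by
      refine (i.ker.mem_support_iff_of_mem hqU).2 ?_
      have h2 : q ∈ U.2.fromSpec '' PrimeSpectrum.zeroLocus (i.ker.ideal U : Set Γ(X, U.1)) := ⟨⟨P, hP⟩, hle, rfl⟩
      rw [U.2.fromSpec_image_zeroLocus] at h2
      exact h2.1
    rw [← Scheme.IdealSheafData.range_subschemeι, hrange] at hq
    obtain ⟨z', hz'⟩ := hq
    letI : Algebra Γ(X, U.1) (X.presheaf.stalk q) := (X.presheaf.germ U.1 q hqU).hom.toAlgebra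
    haveI : IsLocalization.AtPrime (X.presheaf.stalk q) P := U.2.isLocalization_stalk' ⟨P, hP⟩ hqU
    have h3 : ringKrullDim (X.presheaf.stalk q) = (P.height : WithBot ℕ∞) :=
      IsLocalization.AtPrime.ringKrullDim_eq_height P (X.presheaf.stalk q)
    have h4 := hcodim z'
    rw [hz', h3] at h4
    have h5 : (0 : WithBot ℕ∞) ≤ ringKrullDim (Z.presheaf.stalk z') := ringKrullDim_nonneg_of_nontrivial
    have h6 : (2 : WithBot ℕ∞) ≤ (P.height : WithBot ℕ∞) := h4 ▸ le_add_of_nonneg_left h5
    exact WithBot.coe_le_coe.1 h6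
  · have hy' : y ∉ Set.range i.ker.subschemeι := by rwa [hrange]
    obtain ⟨_, ⟨U, hU, rfl⟩, hyU, hle⟩ := X.isBasis_affineOpens.exists_subset_of_mem_open (a := y) hy'
      i.ker.subschemeι.isClosedEmbedding.isClosed_range.isOpen_compl
    refine ⟨⟨U, hU⟩, hyU, exists_locLift_of_regular hg ⟨U, hU⟩ [1] ?_ ?_⟩
    · refine ⟨fun j hj => ?_⟩
      obtain rfl : j = 0 := by simpa using hj
      intro a b h
      simpa using h
    · rw [Ideal.ofList_singleton, Ideal.span_singleton_one, Ideal.eq_top_iff_one, ← toY_eq_zero_iff]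
      have he : i.ker.subschemeι ⁻¹ᵁ U = ⊥ := by
        ext w
        exact ⟨fun hw => hle hw ⟨w, rfl⟩, False.elim⟩
      haveI : Subsingleton Γ(i.ker.subscheme, i.ker.subschemeι ⁻¹ᵁ U) := by rw [he]; infer_instance
      exact Subsingleton.elim _ _

end Groth.L14.LocHilbLift
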