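import Groth.Agent.L14.LocHilb.Lift.OfPsi
import Groth.Agent.L00.SubExtendMain
import Groth.Agent.L12.FunBasic
import Mathlib.Algebra.Homology.DerivedCategory.Ext.ExactSequences

/-! # Lifts exist when `Ext¹(I₀, O/I₀)` vanishes -/

set_option autoImplicit false
set_option linter.style.haveILetI false
set_option linter.unusedSectionVars false
set_option backward.isDefEq.respectTransparency.types false
set_option backward.isDefEq.respectTransparency false

universe u

open CategoryTheory CategoryTheory.Limits AlgebraicGeometry TopologicalSpace Opposite ArtFun ArtFun.Art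

noncomputable section

namespace Groth.L14.LocHilbLift

variable {k : Type u} [Field k] {B A : Art k k} {X : Scheme.{u}} {x : X ⟶ specPt k} {I₀ : X.IdealSheafData}
  {p : B ⟶ A} {t : B} {I : (localHilb X x I₀).obj A}

theorem epi_redM (hg : Gen p t) : Epi (redM x p I) :=
  Groth.L00.SubExtend.epi_of_affine _ fun O hO => redM_surjective hg ⟨O, hO⟩

/-- The sequence of the reduction. -/
abbrev redSeq (x : X ⟶ specPt k) (p : B ⟶ A) (I : (localHilb X x I₀).obj A) : ShortComplex X.Modules :=
  ShortComplex.mk (kernel.ι (redM x p I)) (redM x p I) (kernel.condition _)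

theorem shortExact_redSeq (hg : Gen p t) : (redSeq x p I).ShortExact := by
  haveI := epi_redM (x := x) (I := I) hg
  exact { exact := ShortComplex.exact_of_f_is_kernel _ (kernelIsKernel _) }

theorem surjective_map_of_ext [HasExt.{u} X.Modules]
    (h : Subsingleton (Abelian.Ext.{u} (ClSub.idealMod I₀) (ClSub.quotMod I₀) 1)) (hp : IsSmallExt p) :
    Function.Surjective ((localHilb X x I₀).map p) := by
  intro I
  obtain ⟨t, hg⟩ := exists_gen hp
  obtain ⟨y, hy⟩ := Abelian.Ext.contravariant_sequence_exact₁ (shortExact_redSeq (x := x) (I := I) hg)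
    (ClSub.quotMod I₀) (Abelian.Ext.mk₀ (mu x I hg)) (add_zero 1) (Subsingleton.elim _ _)
  obtain ⟨ψ, rfl⟩ := (Abelian.Ext.mk₀_bijective _ _).2 y
  rw [Abelian.Ext.mk₀_comp_mk₀] at hy
  exact exists_map_eq_of_psi x hg ψ ((Abelian.Ext.mk₀_bijective _ _).1 hy)

end Groth.L14.LocHilbLift
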