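import Groth.Agent.L01.NilDescent
import Mathlib.RingTheory.Flat.Basic
import Mathlib.LinearAlgebra.FreeModule.Basic

/-! # A freeness criterion along a small extension -/

set_option autoImplicit false
set_option linter.style.haveILetI false
set_option linter.unusedSectionVars false

universe u

namespace Groth.L14.LocHilbLift

variable {B A : Type u} [CommRing B] [CommRing A] [Algebra B A] (m : Ideal B) (t : B)
  {M : Type u} [AddCommGroup M] [Module B M] {N : Type u} [AddCommGroup N] [Module B N] [Module A N]
  [IsScalarTower B A N]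

/-- If `M / t M` is free over `A = B / t B` and `t x = 0` forces `x ∈ m M`, then `M` is free over `B`. -/
theorem free_of_small (hA : Function.Surjective (algebraMap B A))
    (ht : ∀ b, algebraMap B A b = 0 → ∃ c, b = c * t) (htA : algebraMap B A t = 0)
    (hm : ∀ c ∈ m, c * t = 0) (htm : t ∈ m) [Module.Free A N] (g : M →ₗ[B] N) (hg : Function.Surjective g)
    (hker : ∀ x, g x = 0 → ∃ y, x = t • y) (htors : ∀ x, t • x = 0 → x ∈ (m • ⊤ : Submodule B M)) :
    Module.Free B M := by
  classical
  have hgt : ∀ y, g (t • y) = 0 := fun y => by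
    rw [map_smul, ← IsScalarTower.algebraMap_smul A t, htA, zero_smul]
  let e := Module.Free.chooseBasis A N
  choose E hE using fun i => hg (e i)
  let F := Finsupp.linearCombination B E
  have hgF : ∀ l, g (F l) = Finsupp.linearCombination A e (l.mapRange (algebraMap B A) (map_zero _)) := fun l => by
    simp only [F, Finsupp.linearCombination_apply]
    rw [map_finsuppSum, Finsupp.sum_mapRange_index fun i => zero_smul A (e i)]
    simp only [map_smul, hE, IsScalarTower.algebraMap_smul]
  have hsurj : ∀ x, ∃ l y, x = F l + t • y := fun x => by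
    obtain ⟨l', hl'⟩ := Finsupp.mapRange_surjective (algebraMap B A) (map_zero _) hA (e.repr (g x))
    obtain ⟨y, hy⟩ := hker (x - F l') (by rw [map_sub, hgF, hl', e.linearCombination_repr, sub_self])
    exact ⟨l', y, by rw [← hy, add_sub_cancel]⟩
  have htt : t * t = 0 := hm t htm
  refine Module.Free.of_basis (Module.Basis.mk (v := E) ?_ ?_)
  · rw [LinearIndependent, injective_iff_map_eq_zero]
    intro l hl
    have hl0 : ∀ i, algebraMap B A (l i) = 0 := fun i => by
      have h1 := hgF l
      rw [show F l = 0 from hl, map_zero] at h1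
      have h2 := congrArg e.repr h1
      rw [map_zero, e.repr_linearCombination] at h2
      exact (DFunLike.congr_fun h2 i).symm
    choose c hc using fun i => ht _ (hl0 i)
    let l₁ : _ →₀ B := Finsupp.onFinset l.support (fun i => if l i = 0 then 0 else c i)
      fun i hi => Finsupp.mem_support_iff.mpr fun h => hi (if_pos h)
    have hl₁ : l = t • l₁ := Finsupp.ext fun i => by
      rw [Finsupp.smul_apply, Finsupp.onFinset_apply, smul_eq_mul]
      by_cases h : l i = 0
      · rw [if_pos h, mul_zero, h]
      · rw [if_neg h, mul_comm, ← hc i]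
    have h3 : F l₁ ∈ (m • ⊤ : Submodule B M) := htors _ (by
      rw [← map_smul, ← hl₁]
      exact hl)
    have h4 : ∀ x ∈ (m • ⊤ : Submodule B M), ∀ i, e.repr (g x) i ∈ m.map (algebraMap B A) := by
      intro x hx
      induction hx using Submodule.smul_induction_on' with
      | smul b hb z _ =>
        intro i
        rw [map_smul, ← IsScalarTower.algebraMap_smul A b, map_smul, Finsupp.smul_apply, smul_eq_mul]
        exact Ideal.mul_mem_right _ _ (Ideal.mem_map_of_mem _ hb)
      | add z _ w _ hz hw =>
        intro i
        rw [map_add, map_add, Finsupp.add_apply]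
        exact add_mem (hz i) (hw i)
    refine Finsupp.ext fun i => ?_
    have h5 := h4 _ h3 i
    rw [hgF, e.repr_linearCombination, Finsupp.mapRange_apply,
      Ideal.mem_map_iff_of_surjective _ hA] at h5
    obtain ⟨b, hb, hb'⟩ := h5
    obtain ⟨d, hd⟩ := ht (l₁ i - b) (by rw [map_sub, hb', sub_self])
    have h6 : l₁ i ∈ m := by
      rw [show l₁ i = b + d * t by rw [← hd]; ring]
      exact add_mem hb (Ideal.mul_mem_left _ _ htm)
    rw [hl₁, Finsupp.smul_apply, smul_eq_mul, mul_comm, hm _ h6, Finsupp.zero_apply]
  · intro x _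
    obtain ⟨l, y, rfl⟩ := hsurj x
    obtain ⟨l₂, y₂, rfl⟩ := hsurj y
    rw [smul_add, smul_smul, htt, zero_smul, add_zero, ← map_smul, ← map_add, ← Finsupp.range_linearCombination]
    exact ⟨_, rfl⟩

end Groth.L14.LocHilbLift
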