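import Groth.Agent.L14.LocHilb.Lift.Smooth
import Groth.Agent.L14.LocHilb.StalkCpl
import Groth.Agent.L14.LocHilb.HilbTangent
import Groth.Agent.S12327

/-! # The completed local ring of a Hilbert scheme pro-represents the local Hilbert functor -/

set_option autoImplicit false
set_option linter.style.haveILetI false
set_option linter.unusedSectionVars false
set_option backward.isDefEq.respectTransparency.types false
set_option backward.isDefEq.respectTransparency false

universe u

open CategoryTheory CategoryTheory.Limits AlgebraicGeometry TopologicalSpace Opposite ArtFun ArtFun.Art IsLocalRing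

noncomputable section

namespace Groth.L14.LocHilbLift

open Groth.L14.LocHilb (St stAlg stRes stMap StHom stRes_algebraMap ofPt ofPt_map ofPt_bijective exists_completion')

variable {k : Type u} [Field k]

theorem exists_prorep_hilb {P : Scheme.{u}} (π : P ⟶ specPt k) [IsProper π] {H : Over (specPt k)}
    (Z : FGA.HilbSet π H) (hH : FGA.HilbRepresentedBy π H Z) (I₀ : P.IdealSheafData)
    (hpt : Over.mk (𝟙 (specPt k)) ⟶ H)
    (hh : FGA.hilbPull π hpt Z.1 = I₀.comap (pullback.fst π (Over.mk (𝟙 (specPt k))).hom)) :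
    ∃ R : ProRep (localHilb P π I₀),
      (IsRegularLocalRing R.ring.carrier ↔
        IsRegularLocalRing (H.left.presheaf.stalk (hpt.left.base (closedPoint k)))) ∧
      ringKrullDim R.ring.carrier = ringKrullDim (H.left.presheaf.stalk (hpt.left.base (closedPoint k))) ∧
      Nonempty (R.ring.carrier ≃+* AdicCompletion (maximalIdeal (H.left.presheaf.stalk (hpt.left.base (closedPoint k))))
        (H.left.presheaf.stalk (hpt.left.base (closedPoint k)))) := by
  haveI : IsLocallyNoetherian H.left := hH.1
  let σ : specPt k ⟶ H.left := hpt.left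
  have hσ : σ ≫ H.hom = 𝟙 _ := Over.w hpt
  letI : Algebra k (St σ) := stAlg H.hom σ
  let r : St σ →ₐ[k] k :=
    { (stRes σ).hom with
      commutes' := fun c => stRes_algebraMap H.hom σ hσ rfl c }
  haveI : IsNoetherianRing (St σ) :=
    inferInstanceAs (IsNoetherianRing (H.left.presheaf.stalk (σ (IsLocalRing.closedPoint k))))
  obtain ⟨R, j, hj, hreg, hb⟩ := exists_completion' r
  let toSt : ∀ A : Art k k, HomSet R.carrier R.res A → StHom H.hom σ A := fun A φ =>
    { hom := CommRingCat.ofHom (φ.1.comp j).toRingHom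
      comm := CommRingCat.hom_ext (RingHom.ext fun c => (φ.1.comp j).commutes c)
      res := CommRingCat.hom_ext (RingHom.ext fun s =>
        (AlgHom.congr_fun φ.2 (j s)).trans (AlgHom.congr_fun hj s)) }
  have hto : ∀ A, Function.Bijective (toSt A) := fun A => by
    refine ⟨fun φ ψ h => (hb A).1 (Subtype.ext (AlgHom.ext fun s => ?_)), fun ψ => ?_⟩
    · exact congrArg (fun θ : StHom H.hom σ A => θ.hom s) h
    · let g : HomSet (St σ) (R.res.comp j) A :=
        ⟨{ ψ.hom.hom with commutes' := fun c => ConcreteCategory.congr_hom ψ.comm c },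
          hj.symm ▸ AlgHom.ext fun s => ConcreteCategory.congr_hom ψ.res s⟩
      obtain ⟨φ, hφ⟩ := (hb A).2 g
      exact ⟨φ, StHom.ext (CommRingCat.hom_ext (RingHom.ext fun s =>
        AlgHom.congr_fun (congrArg Subtype.val hφ) s))⟩
  let η : Family R.carrier R.res (localHilb P π I₀) :=
    { app := fun A φ => ofPt π Z hpt I₀ hh (toSt A φ)
      natural := fun {A B} f φ => by
        rw [← ofPt_map]
        exact congrArg (ofPt π Z hpt I₀ hh) (StHom.ext rfl) }
  exact ⟨⟨R, η, fun A => (ofPt_bijective π Z hpt I₀ hh hH A).comp (hto A)⟩, hreg⟩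

/-- A pro-representing family is a hull. -/
def hullOfProRep {F : Art k k ⥤ Type u} (R : ProRep F) : Hull F where
  ring := R.ring
  family := R.family
  miniversal := ⟨fun B A μ _ φ y hy => by
    obtain ⟨ψ, rfl⟩ := (R.universal B).2 y
    exact ⟨ψ, (R.universal A).1 ((R.family.natural μ ψ).trans hy), rfl⟩, R.universal (dual k k)⟩

theorem isRegular_of_smooth {F : Art k k ⥤ Type u} (R : ProRep F) (hs : IsSmoothFunctor F) :
    IsRegularLocalRing R.ring.carrier := by
  let T : ObsTheory F PUnit.{u + 1} :=
    { obs := fun p hp u => 0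
      obs_eq_zero_iff := fun p hp u => ⟨fun _ => hs p hp.1 u, fun _ => rfl⟩
      obs_quot := fun p hp K hK hKJ hq u => (map_zero _).symm }
  exact (Groth.Agent.S12327.result PUnit.{u + 1} T (hullOfProRep R)).2.2.1 Module.finrank_zero_of_subsingleton

theorem regular_stalk_of_smooth {P : Scheme.{u}} (π : P ⟶ specPt k) [IsProper π] {H : Over (specPt k)}
    (Z : FGA.HilbSet π H) (hH : FGA.HilbRepresentedBy π H Z) (I₀ : P.IdealSheafData)
    (hpt : Over.mk (𝟙 (specPt k)) ⟶ H)
    (hh : FGA.hilbPull π hpt Z.1 = I₀.comap (pullback.fst π (Over.mk (𝟙 (specPt k))).hom))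
    (hs : IsSmoothFunctor (localHilb P π I₀)) :
    IsRegularLocalRing (H.left.presheaf.stalk (hpt.left.base (closedPoint k))) := by
  obtain ⟨R, hR, -⟩ := exists_prorep_hilb π Z hH I₀ hpt hh
  exact hR.1 (isRegular_of_smooth R hs)

end Groth.L14.LocHilbLift
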