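import Groth.Agent.L01.NilDescent
import Groth.Agent.L12.ArtBasic
import Mathlib.RingTheory.Flat.Basic
import Mathlib.RingTheory.Regular.RegularSequence

/-! # Lifts of regular sequences give flat quotients -/

set_option autoImplicit false
set_option linter.style.haveILetI false
set_option linter.unusedSectionVars false

universe u

namespace Groth.L14.LocHilbLift

variable {B : Type u} [CommRing B] (m : Ideal B)

theorem mem_pow_smul_of_map_le {M : Type u} [AddCommGroup M] [Module B M] (n : M →ₗ[B] M)
    (h : ∀ x, n x ∈ (m • ⊤ : Submodule B M)) (j : ℕ) (x : M) : (n ^ j) x ∈ (m ^ j • ⊤ : Submodule B M) := by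
  induction j generalizing x with
  | zero => simp
  | succ j ih =>
    rw [pow_succ' n, Module.End.mul_apply, pow_succ m, Submodule.mul_smul]
    refine Submodule.smul_induction_on (ih x) (fun a ha y _ => ?_) fun y z hy hz => ?_
    · rw [map_smul]
      exact Submodule.smul_mem_smul ha (h y)
    · rw [map_add]
      exact add_mem hy hz

theorem flat_of_injective_mod [m.IsMaximal] (hm : IsNilpotent m) {M N : Type u} [AddCommGroup M] [Module B M]
    [Module.Free B M] [AddCommGroup N] [Module B N] (φ : M →ₗ[B] M) (q : M →ₗ[B] N) (hq : Function.Surjective q)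
    (hker : LinearMap.ker q = LinearMap.range φ)
    (hφ : ∀ x, φ x ∈ (m • ⊤ : Submodule B M) → x ∈ (m • ⊤ : Submodule B M)) : Module.Flat B N := by
  classical
  letI : Field (B ⧸ m) := Ideal.Quotient.field m
  let P := M ⧸ (m • ⊤ : Submodule B M)
  let π : M →ₗ[B] P := (m • ⊤ : Submodule B M).mkQ
  let φ₀ : P →ₗ[B] P := Submodule.mapQ _ _ φ (fun x hx => by
    rw [Submodule.mem_comap]
    refine Submodule.smul_induction_on hx (fun a ha y _ => ?_) fun y z hy hz => ?_
    · rw [map_smul]
      exact Submodule.smul_mem_smul ha trivial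
    · rw [map_add]
      exact add_mem hy hz)
  let φ₁ : P →ₗ[B ⧸ m] P := φ₀.extendScalarsOfSurjective Ideal.Quotient.mk_surjective
  have hinj : LinearMap.ker φ₁ = ⊥ := by
    refine (Submodule.eq_bot_iff _).2 fun z hz => ?_
    obtain ⟨x, rfl⟩ := Submodule.mkQ_surjective _ z
    exact (Submodule.Quotient.mk_eq_zero _).2 (hφ x ((Submodule.Quotient.mk_eq_zero _).1 hz))
  obtain ⟨L₁, hL₁⟩ := φ₁.exists_leftInverse_of_injective hinj
  obtain ⟨L, hL⟩ := Module.projective_lifting_property π ((L₁.restrictScalars B).comp π)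
    (Submodule.mkQ_surjective _)
  let n : M →ₗ[B] M := LinearMap.id - L.comp φ
  have hn : ∀ x, n x ∈ (m • ⊤ : Submodule B M) := fun x => by
    refine (Submodule.Quotient.mk_eq_zero _).1 ?_
    show π (x - L (φ x)) = 0
    rw [map_sub, show π (L (φ x)) = L₁ (π (φ x)) from LinearMap.congr_fun hL (φ x),
      show L₁ (π (φ x)) = π x from LinearMap.congr_fun hL₁ (π x), sub_self]
  obtain ⟨e, he⟩ := hm
  have hnil : IsNilpotent (n : Module.End B M) := ⟨e, LinearMap.ext fun x => by
    have := mem_pow_smul_of_map_le m n hn e x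
    rw [he, Submodule.zero_eq_bot, Submodule.bot_smul] at this
    exact (Submodule.mem_bot B).1 this⟩
  obtain ⟨v, hv⟩ := hnil.isUnit_one_sub
  let Λ : M →ₗ[B] M := (↑v⁻¹ : Module.End B M).comp L
  have hΛ : ∀ x, Λ (φ x) = x := fun x => by
    have h1 : L (φ x) = (↑v : Module.End B M) x := by
      rw [hv]
      show L (φ x) = x - (x - L (φ x))
      rw [sub_sub_cancel]
    show (↑v⁻¹ : Module.End B M) (L (φ x)) = x
    rw [h1, ← Module.End.mul_apply, Units.inv_mul, Module.End.one_apply]
  let s₀ : M →ₗ[B] M := LinearMap.id - φ.comp Λ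
  have hs₀ : LinearMap.ker q ≤ LinearMap.ker s₀ := by
    rw [hker]
    rintro _ ⟨x, rfl⟩
    show φ x - φ (Λ (φ x)) = 0
    rw [hΛ, sub_self]
  let s : N →ₗ[B] M :=
    ((LinearMap.ker q).liftQ s₀ hs₀).comp (q.quotKerEquivOfSurjective hq).symm.toLinearMap
  refine Module.Flat.of_retract s q (LinearMap.ext fun y => ?_)
  obtain ⟨x, rfl⟩ := hq y
  have h2 : s (q x) = s₀ x := by
    show (LinearMap.ker q).liftQ s₀ hs₀ ((q.quotKerEquivOfSurjective hq).symm (q x)) = _
    rw [show q x = q.quotKerEquivOfSurjective hq (Submodule.Quotient.mk x) from rfl, LinearEquiv.symm_apply_apply]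
    rfl
  show q (s (q x)) = q x
  rw [h2]
  show q (x - φ (Λ x)) = q x
  rw [map_sub, show q (φ (Λ x)) = 0 from LinearMap.mem_ker.1 (hker.ge ⟨_, rfl⟩), sub_zero]

variable {R : Type u} [CommRing R] [Algebra B R] {R₀ : Type u} [CommRing R₀]

theorem flat_quotient_ofList [m.IsMaximal] (hm : IsNilpotent m) [Module.Flat B R] (red : R →+* R₀)
    (hred : Function.Surjective red) (hker : RingHom.ker red = m.map (algebraMap B R)) (F : List R)
    (hreg : RingTheory.Sequence.IsWeaklyRegular R₀ (F.map red)) : Module.Flat B (R ⧸ Ideal.ofList F) := by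
  suffices H : ∀ j, j ≤ F.length → Module.Flat B (R ⧸ Ideal.ofList (F.take j)) by
    exact List.take_length (l := F) ▸ H F.length le_rfl
  intro j hj
  induction j with
  | zero =>
    rw [List.take_zero, Ideal.ofList_nil]
    exact Module.Flat.of_linearEquiv (Submodule.quotEquivOfEqBot _ rfl |>.restrictScalars B)
  | succ j ih =>
    haveI := ih (Nat.le_of_succ_le hj)
    let J := Ideal.ofList (F.take j)
    haveI : Module.Flat B (TensorProduct B B (R ⧸ J)) := Module.Flat.of_linearEquiv (TensorProduct.lid B _)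
    haveI : Module.Free B (R ⧸ J) :=
      Groth.L01.NilDescent.free_of_flat_baseChange m hm B Function.injective_id _
    have hJ : J.map red = Ideal.ofList ((F.map red).take j) := by rw [Ideal.map_ofList, List.map_take]
    have hJ' : J ≤ Ideal.ofList (F.take (j + 1)) := by
      rw [List.take_add_one, Ideal.ofList_append]
      exact le_sup_left
    let f := F[j]
    refine flat_of_injective_mod m hm (LinearMap.lsmul R (R ⧸ J) f |>.restrictScalars B)
      ((Ideal.Quotient.factorₐ B hJ').toLinearMap) (Ideal.Quotient.factor_surjective hJ') ?_ ?_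
    · ext z
      obtain ⟨z, rfl⟩ := Ideal.Quotient.mk_surjective z
      rw [LinearMap.mem_ker, LinearMap.mem_range]
      show Ideal.Quotient.mk (Ideal.ofList (F.take (j + 1))) z = 0 ↔ ∃ y, f • y = Ideal.Quotient.mk J z
      rw [Ideal.Quotient.eq_zero_iff_mem, List.take_add_one, Ideal.ofList_append,
        List.getElem?_eq_getElem hj, Option.toList_some, Ideal.ofList_singleton, Submodule.mem_sup]
      constructor
      · rintro ⟨a, ha, b, hb, rfl⟩
        obtain ⟨c, rfl⟩ := Ideal.mem_span_singleton'.1 hb
        refine ⟨Ideal.Quotient.mk J c, ?_⟩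
        show Ideal.Quotient.mk J (f * c) = _
        rw [Ideal.Quotient.eq, show f * c - (a + c * f) = -a by ring]
        exact neg_mem ha
      · rintro ⟨y, hy⟩
        obtain ⟨y, rfl⟩ := Ideal.Quotient.mk_surjective y
        change Ideal.Quotient.mk J (f * y) = _ at hy
        rw [Ideal.Quotient.eq] at hy
        refine ⟨z - f * y, ?_, f * y, Ideal.mem_span_singleton'.2 ⟨y, mul_comm _ _⟩, sub_add_cancel _ _⟩
        rw [← neg_sub]
        exact neg_mem hy
    · intro z hz
      obtain ⟨z, rfl⟩ := Ideal.Quotient.mk_surjective z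
      have key : ∀ w, Ideal.Quotient.mk J w ∈ (m • ⊤ : Submodule B (R ⧸ J)) ↔ red w ∈ J.map red := fun w => by
        rw [Ideal.smul_top_eq_map, Submodule.restrictScalars_mem,
          show algebraMap B (R ⧸ J) = (Ideal.Quotient.mk J).comp (algebraMap B R) from rfl, ← Ideal.map_map,
          ← hker, Ideal.mem_quotient_iff_mem_sup, ← Ideal.mem_comap (f := red),
          Ideal.comap_map_of_surjective red hred, sup_comm]
        rfl
      change Ideal.Quotient.mk J (f * z) ∈ _ at hz
      rw [key, map_mul, hJ] at hz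
      rw [key, hJ]
      have h1 := hreg.regular_mod_prev j (by rw [List.length_map]; exact hj)
      rw [isSMulRegular_quotient_iff_mem_of_smul_mem] at h1
      have e : (Ideal.ofList ((F.map red).take j) • ⊤ : Submodule R₀ R₀) = Ideal.ofList ((F.map red).take j) :=
        Ideal.mul_top _
      have h2 := h1 (red z) (by
        rw [e, List.getElem_map]
        exact hz)
      rwa [e] at h2

end Groth.L14.LocHilbLift
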