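import Groth.Agent.L16.HomSh.Basic
import Groth.Agent.L16.CohLinear
import Groth.Agent.L16.AffineBC.Local
import Groth.Agent.L21.RR.Sections
import Groth.Agent.L00.SubExtendMain
import Groth.Agent.L18.IdealModule
import Groth.Prelude.Def_Omega4

/-! # Extending a homomorphism that extends locally, when `H¹` of the sheaf of homomorphisms vanishes -/

set_option autoImplicit false
set_option linter.style.haveILetI false
set_option linter.unusedSectionVars false
set_option backward.isDefEq.respectTransparency.types false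
set_option backward.isDefEq.respectTransparency false

universe u

open CategoryTheory CategoryTheory.Limits AlgebraicGeometry TopologicalSpace Opposite

noncomputable section

namespace Groth.L14.LocHilbLift

open Groth.L16.HomSh
open Groth.L18.Frame (rs ro rs_rs)

variable {X : Scheme.{u}} {M' M M'' : X.Modules}

/-- Precomposition on sections. -/
def preSec (g : M ⟶ M'') (N : X.Modules) (U : X.Opens) : Sec M'' N U →+ Sec M N U where
  toFun φ := ⟨fun W => (φ.1 W).comp (g.app W.1).hom,
    fun W W' h h' a => by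
      show rs N h' (ev φ h (g.app W a)) = ev φ (h'.trans h) (g.app W' (rs M h' a))
      rw [ev_rs]
      exact congrArg _ (congr($(g.mapPresheaf.naturality (homOfLE h').op) a)).symm,
    fun W h a m => by
      show ev φ h (g.app W (a • m)) = a • ev φ h (g.app W m)
      rw [Scheme.Modules.Hom.app_smul g, ev_smul]⟩
  map_zero' := rfl
  map_add' _ _ := rfl

/-- Precomposition. -/
def pre (g : M ⟶ M'') (N : X.Modules) : homMod M'' N ⟶ homMod M N :=
  ⟨PresheafOfModules.homMk
    { app := fun U => AddCommGrpCat.ofHom (preSec g N U.unop)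
      naturality := fun _ _ _ => rfl }
    (fun _ _ _ => sec_ext fun _ _ _ => rfl)⟩

theorem ev_pre (g : M ⟶ M'') (N : X.Modules) (U : X.Opens) (s : Γ(homMod M'' N, U)) {W : X.Opens} (h : W ≤ U)
    (a : Γ(M, W)) : ev (secEquiv U ((pre g N).app U s)) h a = ev (secEquiv U s) h (g.app W a) := rfl

variable {ι : M' ⟶ M} {g : M ⟶ M''} (N : X.Modules)

set_option maxHeartbeats 800000 in
theorem exists_extension_of_local [Coh.IsQCoh M] [Coh.IsQCoh M''] (w : ι ≫ g = 0)
    (hsurj : ∀ U : X.affineOpens, Function.Surjective (g.app U.1))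
    (hker : ∀ (U : X.affineOpens) (m : Γ(M, U.1)), g.app U.1 m = 0 → ∃ m', ι.app U.1 m' = m)
    (h1 : Subsingleton (Coh.HH X (homMod M'' N) 1)) (μ : M' ⟶ N)
    (hloc : ∀ y : X, ∃ W : X.Opens, y ∈ W ∧ ∃ s : Sec M N W,
      ∀ (W' : X.Opens) (h : W' ≤ W) (m : Γ(M', W')), ev s h (ι.app W' m) = μ.app W' m) :
    ∃ ψ : M ⟶ N, ι ≫ ψ = μ := by
  let f := pre g N
  let h := pre ι N
  have wfh : f ≫ h = 0 := hom_ext_ev fun U s W hW m => by
    show ev (secEquiv U s) hW (g.app W (ι.app W m)) = _
    rw [show g.app W (ι.app W m) = (ι ≫ g).app W m from rfl, w]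
    exact map_zero _
  haveI : Mono f := by
    refine ⟨fun {Z} a b e => Groth.L16.AffineBC.hom_ext_affine _ _ fun U hU z => ?_⟩
    have e1 : f.app U (a.app U z) = f.app U (b.app U z) := congr($(e).app U z)
    refine (secEquiv U).injective (sub_eq_zero.1 (ev_top_injective hU fun m => ?_))
    obtain ⟨m₀, rfl⟩ := hsurj ⟨U, hU⟩ m
    show ev (secEquiv U (a.app U z)) le_rfl (g.app U m₀) - ev (secEquiv U (b.app U z)) le_rfl (g.app U m₀) = 0
    rw [← ev_pre, ← ev_pre, sub_eq_zero]
    exact congrArg (fun t => ev (secEquiv U t) le_rfl m₀) e1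
  haveI : Mono (kernel.lift h f wfh) := mono_of_mono_fac (kernel.lift_ι h f wfh)
  haveI : Epi (kernel.lift h f wfh) := by
    refine Groth.L00.SubExtend.epi_of_affine _ fun U hU z => ?_
    let s : Γ(homMod M N, U) := (kernel.ι h).app U z
    have hs : ∀ m', ev (secEquiv U s) le_rfl (ι.app U m') = 0 := fun m' => by
      have h0 : (kernel.ι h ≫ h).app U z = (0 : kernel h ⟶ homMod M' N).app U z := by rw [kernel.condition]
      exact congrArg (fun t => ev (secEquiv U t) le_rfl m') h0
    choose σ hσ using hsurj ⟨U, hU⟩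
    have hd : ∀ m, ev (secEquiv U s) le_rfl (σ (g.app U m)) = ev (secEquiv U s) le_rfl m := fun m => by
      obtain ⟨m', hm'⟩ := hker ⟨U, hU⟩ (σ (g.app U m) - m) (by rw [map_sub, hσ, sub_self])
      have := hs m'
      rwa [hm', map_sub, sub_eq_zero] at this
    let ℓ : Γ(M'', U) →ₗ[Γ(X, U)] Γ(N, U) :=
      { toFun := fun b => ev (secEquiv U s) le_rfl (σ b)
        map_add' := fun a b => by
          rw [← map_add, ← hd (σ a + σ b), map_add (g.app U).hom]
          exact congrArg (fun t => ev (secEquiv U s) le_rfl (σ t)) (congrArg₂ (· + ·) (hσ a).symm (hσ b).symm)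
        map_smul' := fun c b => by
          rw [RingHom.id_apply, ← ev_smul, ← hd (c • σ b), Scheme.Modules.Hom.app_smul g]
          exact congrArg (fun t => ev (secEquiv U s) le_rfl (σ t)) (congrArg (c • ·) (hσ b).symm) }
    obtain ⟨φ, hφ⟩ := exists_sec_of_linear hU ℓ
    refine ⟨(secEquiv U).symm φ, ?_⟩
    refine _root_.OmegaSh.ι_app_injective h U ?_
    have h2 : (kernel.lift h f wfh ≫ kernel.ι h).app U ((secEquiv U).symm φ) = f.app U ((secEquiv U).symm φ) := by
      rw [kernel.lift_ι]
    refine h2.trans ((secEquiv U).injective (sub_eq_zero.1 (ev_top_injective hU fun m => ?_)))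
    show ev φ le_rfl (g.app U m) - ev (secEquiv U s) le_rfl m = 0
    rw [hφ, sub_eq_zero]
    exact hd m
  haveI : IsIso (kernel.lift h f wfh) := isIso_of_mono_of_epi _
  have h1' : Subsingleton (Coh.HH X (kernel h) 1) := ⟨fun a b => by
    have hrt : ∀ c, Groth.L16.CohLinear.hmap (kernel.lift h f wfh) 1
        (Groth.L16.CohLinear.hmap (inv (kernel.lift h f wfh)) 1 c) = c := fun c => by
      rw [← Groth.L16.CohLinear.hmap_comp, IsIso.inv_hom_id, Groth.L16.CohLinear.hmap_id]
    rw [← hrt a, ← hrt b]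
    exact congrArg _ (Subsingleton.elim _ _)⟩
  let q : Γ(homMod M' N, ⊤) := globalEquiv M' N μ
  have hq : (cokernel.π h).app ⊤ q = 0 := by
    choose W hyW s hs using hloc
    refine ext_cover _ W (fun _ => le_top) (fun y _ => Opens.mem_iSup.2 ⟨y, hyW y⟩) fun y => ?_
    refine Eq.trans ?_ (map_zero _).symm
    refine (congr($((cokernel.π h).mapPresheaf.naturality (homOfLE (le_top : W y ≤ ⊤)).op) q)).symm.trans ?_
    have e : rs (homMod M' N) (le_top : W y ≤ ⊤) q = h.app (W y) ((secEquiv (W y)).symm (s y)) :=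
      (secEquiv (W y)).injective (sec_ext fun W' hW' m => (hs y W' hW' m).symm)
    show (cokernel.π h).app (W y) (rs (homMod M' N) (le_top : W y ≤ ⊤) q) = 0
    rw [e]
    show (h ≫ cokernel.π h).app (W y) _ = 0
    rw [cokernel.condition]
    rfl
  let q' := _root_.OmegaSh.kerLift (cokernel.π h) ⊤ q hq
  have hw : kernel.ι h ≫ Abelian.factorThruImage h = 0 := by
    rw [← cancel_mono (Abelian.image.ι h), Category.assoc, Abelian.image.fac, kernel.condition, zero_comp]
  have hS : (ShortComplex.mk (kernel.ι h) (Abelian.factorThruImage h) hw).ShortExact :=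
    { exact := ShortComplex.exact_of_f_is_kernel _ (KernelFork.IsLimit.ofι (kernel.ι h) hw
        (fun {Z} a (ha : a ≫ Abelian.factorThruImage h = 0) => kernel.lift h a (by
          rw [← Abelian.image.fac h, ← Category.assoc, ha, zero_comp]))
        (fun {Z} a ha => kernel.lift_ι _ _ _)
        (fun {Z} a ha m hm => (cancel_mono (kernel.ι h)).1 (hm.trans (kernel.lift_ι _ _ _).symm))) }
  obtain ⟨c, hc⟩ := ((Groth.L16.CohLinear.exact_hmap_delta hS 0)
    ((Groth.L21.RR.e0 _).symm q')).1 (h1'.elim _ _)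
  let s := Groth.L21.RR.e0 (homMod M N) c
  have hs : (Abelian.factorThruImage h).app ⊤ s = q' :=
    (Groth.L21.RR.e0_hmap _ c).symm.trans ((congrArg _ hc).trans ((Groth.L21.RR.e0 _).apply_symm_apply q'))
  have hs' : h.app ⊤ s = q := by
    have e : (Abelian.factorThruImage h ≫ Abelian.image.ι h).app ⊤ s = h.app ⊤ s := by rw [Abelian.image.fac]
    rw [← e]
    show (Abelian.image.ι h).app ⊤ ((Abelian.factorThruImage h).app ⊤ s) = q
    rw [hs]
    exact _root_.OmegaSh.ι_kerLift (cokernel.π h) ⊤ q hq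
  refine ⟨(globalEquiv M N).symm s, Groth.L16.AffineBC.hom_ext_affine _ _ fun U _ m => ?_⟩
  exact congrArg (fun t => ev (secEquiv ⊤ t) (le_top : U ≤ ⊤) m) hs'

end Groth.L14.LocHilbLift
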