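import Groth.Agent.L14.LocHilb.Lift.Ext
import Groth.Agent.L14.LocHilb.Lift.RegSeq
import Groth.Agent.L14.LocHilb.Lift.Torsor
import Groth.Prelude.Def_Mor2

/-! # Local lifts of regularly embedded subschemes -/

set_option autoImplicit false
set_option linter.style.haveILetI false
set_option linter.unusedSectionVars false
set_option backward.isDefEq.respectTransparency.types false
set_option backward.isDefEq.respectTransparency false

universe u

open CategoryTheory CategoryTheory.Limits AlgebraicGeometry TopologicalSpace Opposite ArtFun ArtFun.Art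

noncomputable section

namespace Groth.L14.LocHilbLift

open Groth.L18.Frame (rs ro rs_rs rs_smul ro_ro ro_self)
open Groth.L14.LocTriv (R rB red res vOf)
open Groth.L14.LocHilb (trivXA)
open Groth.L16.HomSh

variable {k : Type u} [Field k] {B A : Art k k} {X : Scheme.{u}} {x : X ⟶ specPt k} {I₀ : X.IdealSheafData}
  {p : B ⟶ A} {t : B} {I : (localHilb X x I₀).obj A}

/-- A lift of the preimage ideal on an affine open. -/
structure LocLift (x : X ⟶ specPt k) (p : B ⟶ A) (t : B) (I : (localHilb X x I₀).obj A) (U : X.affineOpens) :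
    Type u where
  /-- the ideal -/
  J : Ideal (R (trivXA (x := x) B) U.1)
  le : J ≤ pid x p I U
  exists_sub : ∀ z ∈ pid x p I U, ∃ r, z - rB (trivXA (x := x) B) U.1 t * r ∈ J
  red_mem : ∀ r, rB (trivXA (x := x) B) U.1 t * r ∈ J → red (trivXA (x := x) B) U.1 r ∈ I₀.ideal U

theorem LocLift.mP_le {U : X.affineOpens} (L : LocLift x p t I U) (hg : Gen p t) : mP x p I U ≤ L.J := by
  intro y hy
  refine Submodule.mul_induction_on hy (fun a ha z hz => ?_) fun y y' hy hy' => add_mem hy hy'
  obtain ⟨r, hr⟩ := L.exists_sub z hz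
  have h0 : a * rB (trivXA (x := x) B) U.1 t = 0 := by
    refine Submodule.span_induction ?_ (zero_mul _) (fun a b _ _ ha hb => by rw [add_mul, ha, hb, add_zero])
      (fun c a _ ha => by rw [smul_eq_mul, mul_assoc, ha, mul_zero]) ha
    rintro _ ⟨c, hc, rfl⟩
    rw [← map_mul, hg.kill c hc, map_zero]
  rw [show a * z = a * (z - rB (trivXA (x := x) B) U.1 t * r) by rw [mul_sub, ← mul_assoc, h0, zero_mul, sub_zero]]
  exact Ideal.mul_mem_left _ _ hr

theorem LocLift.exists_sec {U : X.affineOpens} (L : LocLift x p t I U) (hg : Gen p t) :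
    ∃ s : Sec (PMod x p I) (ClSub.quotMod I₀) U.1, ∀ (W : X.Opens) (h : W ≤ U.1)
      (m : Γ(kernel (redM x p I), W)), ev s h ((kernel.ι (redM x p I)).app W m) = (mu x I hg).app W m := by
  choose r hr using fun s : Γ(PMod x p I, U.1) => L.exists_sub _ (sect_mem U s)
  have hwd : ∀ (s : Γ(PMod x p I, U.1)) r', sect x p I U.1 s - rB (trivXA (x := x) B) U.1 t * r' ∈ L.J →
      toY (I₀ := I₀) U.1 (red (trivXA (x := x) B) U.1 (r s)) = toY U.1 (red (trivXA (x := x) B) U.1 r') := by
    intro s r' h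
    rw [← sub_eq_zero, ← map_sub, ← map_sub]
    refine (toY_eq_zero_iff U _).2 (L.red_mem _ ?_)
    have := sub_mem h (hr s)
    rwa [sub_sub_sub_cancel_left, ← mul_sub] at this
  let val : Γ(PMod x p I, U.1) → Γ(I₀.subscheme, I₀.subschemeι ⁻¹ᵁ U.1) := fun s =>
    toY U.1 (red (trivXA (x := x) B) U.1 (r s))
  let ℓ : Γ(PMod x p I, U.1) →ₗ[Γ(X, U.1)] Γ(ClSub.quotMod I₀, U.1) :=
    { toFun := fun s => (show Γ(ClSub.quotMod I₀, U.1) from val s)
      map_add' := fun s s' => by
        show val (s + s') = val s + val s'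
        refine (hwd (s + s') (r s + r s') ?_).trans (by rw [map_add, map_add])
        rw [map_add, mul_add, add_sub_add_comm]
        exact add_mem (hr s) (hr s')
      map_smul' := fun a s => by
        show val (a • s) = toY U.1 a * val s
        refine (hwd (a • s) (sec x B U.1 a * r s) ?_).trans (by rw [map_mul, red_sec, map_mul])
        rw [sect_smul, mul_left_comm, ← mul_sub]
        exact Ideal.mul_mem_left _ _ (hr s) }
  obtain ⟨φ, hφ⟩ := exists_sec_of_linear U.2 ℓ
  haveI : Coh.IsQCoh (kernel (redM x p I)) := Groth.L18.IdealModule.isQCoh_kernel (redM x p I)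
  let σ : Γ(homMod (kernel (redM x p I)) (ClSub.quotMod I₀), U.1) :=
    (pre (kernel.ι (redM x p I)) _).app U.1 ((secEquiv U.1).symm φ)
  let τ : Γ(homMod (kernel (redM x p I)) (ClSub.quotMod I₀), U.1) :=
    rs _ (le_top : U.1 ≤ ⊤) (globalEquiv _ _ (mu x I hg))
  have e : secEquiv U.1 σ = secEquiv U.1 τ := by
    refine sub_eq_zero.1 (ev_top_injective U.2 fun m => ?_)
    show ev φ le_rfl ((kernel.ι (redM x p I)).app U.1 m) - (mu x I hg).app U.1 m = 0
    rw [hφ, sub_eq_zero]
    refine (Eq.symm ?_)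
    refine mu_eq hg U m ⟨r _, L.mP_le hg |> fun _ => ?_, rfl⟩
    obtain ⟨r₁, hr₁⟩ := hg.exists_sub_mem_mP (sect_mem U _) (red_kerι_eq_zero U m)
    have h2 : rB (trivXA (x := x) B) U.1 t * (r₁ - r ((kernel.ι (redM x p I)).app U.1 m)) ∈ L.J := by
      have := sub_mem (hr ((kernel.ι (redM x p I)).app U.1 m)) (L.mP_le hg hr₁)
      rwa [sub_sub_sub_cancel_left, ← mul_sub] at this
    obtain ⟨z, hz, hzr⟩ := hg.exists_red_eq (I := I) (L.red_mem _ h2)
    have h3 : rB (trivXA (x := x) B) U.1 t * z ∈ mP x p I U :=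
      Ideal.mul_mem_mul (Ideal.mem_map_of_mem _ hg.mem) hz
    have h4 : rB (trivXA (x := x) B) U.1 t * (r₁ - r ((kernel.ι (redM x p I)).app U.1 m)) =
        rB (trivXA (x := x) B) U.1 t * z :=
      Groth.L14.LocTriv.mul_eq_of_red _ U hg.kill hzr.symm
    have := add_mem hr₁ (h4 ▸ h3)
    convert this using 1
    ring
  exact ⟨φ, fun W h m => congrArg (fun θ => ev θ h m) e⟩

theorem exists_locLift_of_regular (hg : Gen p t) (U : X.affineOpens) (f : List Γ(X, U.1))
    (hreg : RingTheory.Sequence.IsWeaklyRegular Γ(X, U.1) f) (hI : I₀.ideal U = Ideal.ofList f) :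
    Nonempty (LocLift x p t I U) := by
  let T := R (trivXA (x := x) B) U.1
  let S := R (trivXA (x := x) A) U.1
  choose F hF hFred using fun a : {a // a ∈ f} => hg.exists_red_eq (I := I) (U := U)
    (a := a.1) (hI ▸ Ideal.subset_span a.2)
  let Fl : List T := f.attach.map F
  have hmapFl : Fl.map (red (trivXA (x := x) B) U.1) = f := by
    rw [List.map_map, show (red (trivXA (x := x) B) U.1 : T → _) ∘ F = Subtype.val from funext hFred,
      List.attach_map_subtype_val]
  let J : Ideal T := Ideal.ofList Fl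
  have hJle : J ≤ pid x p I U := Ideal.span_le.2 fun z (hz : z ∈ Fl) => by
    obtain ⟨a, -, rfl⟩ := List.mem_map.1 hz
    exact hF a
  have hJred : J.map (red (trivXA (x := x) B) U.1) = I₀.ideal U := by
    rw [Ideal.map_ofList, hmapFl, hI]
  letI : Algebra A S := (rB (trivXA (x := x) A) U.1).toAlgebra
  obtain ⟨ρ, hρ, hρid⟩ := exists_retract x I U
  let mA : Ideal S := (IsLocalRing.maximalIdeal A).map (rB (trivXA (x := x) A) U.1)
  have hIA : IA x I U ≤ J.map (π x p U).hom := by
    let M : Submodule S S := IA x I U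
    have step : IA x I U ≤ J.map (π x p U).hom ⊔ mA * IA x I U := by
      intro y hy
      have h1 := (mem_I₀_iff x I U _).2 ⟨y, hy, rfl⟩
      rw [← hJred, Ideal.mem_map_iff_of_surjective _ (Groth.L14.LocTriv.red_surjective _ U)] at h1
      obtain ⟨z, hz, e⟩ := h1
      have h2 : y - (π x p U).hom z ∈ IA x I U := sub_mem hy (hJle hz)
      have h3 : y - (π x p U).hom z ∈ mA * IA x I U := by
        have h4 : red (trivXA (x := x) A) U.1 (y - (π x p U).hom z) = 0 := by
          rw [map_sub, (π x p U).red_hom, e, sub_self]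
        have key : ∀ v ∈ mA, ∀ w, ρ (w * v) ∈ mA * IA x I U := by
          intro v hv
          refine Submodule.span_induction ?_ ?_ ?_ ?_ hv
          · rintro _ ⟨c, hc, rfl⟩ w
            rw [mul_comm w, show rB (trivXA (x := x) A) U.1 c * w = c • w from rfl, map_smul]
            exact Ideal.mul_mem_mul (Ideal.mem_map_of_mem _ hc) (hρ w)
          · intro w
            rw [mul_zero, map_zero]
            exact zero_mem _
          · intro a b _ _ ha hb w
            rw [mul_add, map_add]
            exact add_mem (ha w) (hb w)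
          · intro c a _ ha w
            rw [smul_eq_mul, ← mul_assoc]
            exact ha _
        have h5 := key _ ((Groth.L14.LocTriv.red_eq_zero_iff _ U _).1 h4) 1
        rwa [one_mul, hρid _ h2] at h5
      exact Submodule.mem_sup.2 ⟨_, Ideal.mem_map_of_mem _ hz, _, h3, add_sub_cancel _ _⟩
    obtain ⟨n, hn⟩ := Groth.L12.isNilpotent_maximalIdeal A
    have it : ∀ j, IA x I U ≤ J.map (π x p U).hom ⊔ mA ^ j * IA x I U := by
      intro j
      induction j with
      | zero => simp
      | succ j ih =>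
        refine ih.trans (sup_le le_sup_left ?_)
        refine (mul_le_mul_right step (mA ^ j)).trans ?_
        rw [Ideal.mul_sup, pow_succ, mul_assoc]
        exact sup_le_sup_right Ideal.mul_le_right _
    have := it n
    rwa [← Ideal.map_pow, hn, Ideal.zero_eq_bot, Ideal.map_bot, Submodule.bot_mul, sup_bot_eq] at this
  letI : Algebra B T := (rB (trivXA (x := x) B) U.1).toAlgebra
  haveI : Module.Flat B T := Groth.L14.LocTriv.rB_flat _ U
  haveI := IsLocalRing.maximalIdeal.isMaximal B
  have hfl : Module.Flat B (T ⧸ J) := flat_quotient_ofList (IsLocalRing.maximalIdeal B)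
    (Groth.L12.isNilpotent_maximalIdeal B) (red (trivXA (x := x) B) U.1)
    (Groth.L14.LocTriv.red_surjective _ U)
    (Ideal.ext fun r => RingHom.mem_ker.trans (Groth.L14.LocTriv.red_eq_zero_iff _ U r)) Fl
    (hmapFl.symm ▸ hreg)
  refine ⟨⟨J, hJle, fun z hz => ?_, fun r hr => ?_⟩⟩
  · obtain ⟨z', hz', e⟩ := (Ideal.mem_map_iff_of_surjective _ (π_surjective x p hg.surj U)).1 (hIA hz)
    obtain ⟨r, hr⟩ := hg.exists_of_π_eq_zero x (r := z - z') (by rw [map_sub, e, sub_self])
    exact ⟨r, by rwa [← hr, sub_sub_cancel]⟩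
  · let φ : B →+* T ⧸ J := (Ideal.Quotient.mk J).comp (rB (trivXA (x := x) B) U.1)
    have hφ : φ.Flat := hfl
    have h1 : Ideal.Quotient.mk J r ∈ (IsLocalRing.maximalIdeal B).map φ :=
      Groth.L14.DefLift.mem_map_of_mul_mem φ hφ (J := ⊥) (fun h => hg.ne_zero (Ideal.mem_bot.1 h))
        (fun c hc => Ideal.mem_bot.2 (hg.kill c hc))
        (by
          rw [Ideal.map_bot, Ideal.mem_bot]
          exact (map_mul _ _ _).symm.trans (Ideal.Quotient.eq_zero_iff_mem.2 hr))
    rw [← Ideal.map_map, Ideal.mem_quotient_iff_mem_sup] at h1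
    obtain ⟨a, ha, b, hb, rfl⟩ := Submodule.mem_sup.1 h1
    rw [map_add, ← hJred]
    first
      | (rw [(Groth.L14.LocTriv.red_eq_zero_iff _ U a).2 ha, zero_add]; exact Ideal.mem_map_of_mem _ hb)
      | (rw [(Groth.L14.LocTriv.red_eq_zero_iff _ U b).2 hb, add_zero]; exact Ideal.mem_map_of_mem _ ha)

theorem exists_regular_nbhd (hreg : Mor2.IsRegularClosedImmersion I₀.subschemeι) (y : X) :
    ∃ (U : X.affineOpens) (f : List Γ(X, U.1)), y ∈ U.1 ∧
      RingTheory.Sequence.IsWeaklyRegular Γ(X, U.1) f ∧ I₀.ideal U = Ideal.ofList f := by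
  by_cases hy : y ∈ Set.range I₀.subschemeι
  · obtain ⟨z, rfl⟩ := hy
    obtain ⟨U, hU, hzU, f, hf, e⟩ := hreg.2 z
    exact ⟨⟨U, hU⟩, f, hzU, hf.toIsWeaklyRegular, by rwa [Scheme.IdealSheafData.ker_subschemeι] at e⟩
  · have hc : IsClosed (Set.range I₀.subschemeι) := I₀.subschemeι.isClosedEmbedding.isClosed_range
    obtain ⟨_, ⟨U, hU, rfl⟩, hyU, hle⟩ :=
      X.isBasis_affineOpens.exists_subset_of_mem_open (a := y) hy hc.isOpen_compl
    refine ⟨⟨U, hU⟩, [1], hyU, ?_, ?_⟩
    · refine ⟨fun i hi => ?_⟩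
      obtain rfl : i = 0 := by simpa using hi
      intro a b h
      simpa using h
    · rw [Ideal.ofList_singleton, Ideal.span_singleton_one, Ideal.eq_top_iff_one, ← toY_eq_zero_iff]
      have he : I₀.subschemeι ⁻¹ᵁ U = ⊥ := by
        ext z
        exact ⟨fun hz => hle hz ⟨z, rfl⟩, False.elim⟩
      haveI : Subsingleton Γ(I₀.subscheme, I₀.subschemeι ⁻¹ᵁ U) := by rw [he]; infer_instance
      exact Subsingleton.elim _ _

theorem surjective_map_of_h1 (hreg : Mor2.IsRegularClosedImmersion I₀.subschemeι)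
    (h1 : Subsingleton (Coh.HH X (homMod (ClSub.idealMod I₀) (ClSub.quotMod I₀)) 1)) (hp : IsSmallExt p) :
    Function.Surjective ((localHilb X x I₀).map p) := by
  intro I
  obtain ⟨t, hg⟩ := exists_gen hp
  obtain ⟨ψ, hψ⟩ := exists_extension_of_local (ClSub.quotMod I₀) (kernel.condition (redM x p I))
    (fun U => redM_surjective hg U)
    (fun U m hm => ⟨_, _root_.OmegaSh.ι_kerLift (redM x p I) U.1 m hm⟩) h1 (mu x I hg) fun y => by
      obtain ⟨U, f, hyU, hf, e⟩ := exists_regular_nbhd hreg y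
      obtain ⟨L⟩ := exists_locLift_of_regular (x := x) (I := I) hg U f hf e
      exact ⟨U.1, hyU, L.exists_sec hg⟩
  exact exists_map_eq_of_psi x hg ψ hψ

end Groth.L14.LocHilbLift
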