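import Groth.Agent.S11457
import Groth.Agent.S11459
import Mathlib.RingTheory.RingHom.Flat
import Mathlib.RingTheory.RingHom.Smooth

/-! # Lifting determinantal presentations along surjections with kernel killed by the maximal ideal -/

set_option autoImplicit false
set_option linter.style.haveILetI false
set_option linter.unusedSectionVars false

universe u

namespace Groth.L14.LocHilbLift

variable {R S : Type u} [CommRing R] [CommRing S] {r : ℕ}

/-- The signed maximal minors. -/
abbrev mnr (φ : Matrix (Fin (r + 1)) (Fin r) R) (i : Fin (r + 1)) : R :=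
  (-1 : R) ^ (i : ℕ) * ((φ).submatrix i.succAbove id).det

/-- The ideal of maximal minors. -/
abbrev mnrIdeal (φ : Matrix (Fin (r + 1)) (Fin r) R) : Ideal R := Ideal.span (Set.range (mnr φ))

/-- Exactness of the sequence of a matrix and its minors. -/
def IsHB (φ : Matrix (Fin (r + 1)) (Fin r) R) : Prop :=
  Function.Injective φ.mulVecLin ∧
    LinearMap.range φ.mulVecLin = LinearMap.ker (Fintype.linearCombination R (mnr φ))

theorem map_mnr (f : R →+* S) (φ : Matrix (Fin (r + 1)) (Fin r) R) (i : Fin (r + 1)) :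
    f (mnr φ i) = mnr (φ.map f) i := by
  rw [mnr, mnr, map_mul, map_pow, map_neg, map_one, f.map_det, RingHom.mapMatrix_apply, Matrix.submatrix_map]

theorem map_mnrIdeal (f : R →+* S) (φ : Matrix (Fin (r + 1)) (Fin r) R) :
    (mnrIdeal φ).map f = mnrIdeal (φ.map f) := by
  rw [mnrIdeal, mnrIdeal, Ideal.map_span, ← Set.range_comp]
  exact congrArg Ideal.span (congrArg Set.range (funext (map_mnr f φ)))

theorem IsHB.map_equiv (e : R ≃+* S) {φ : Matrix (Fin (r + 1)) (Fin r) R} (h : IsHB φ) :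
    IsHB (φ.map e.toRingHom) := by
  have hmv : ∀ v : Fin r → R, (φ.map e.toRingHom).mulVecLin (fun j => e (v j)) = fun i => e (φ.mulVecLin v i) :=
    fun v => funext fun i => (e.toRingHom.map_mulVec φ v i).symm
  have hlc : ∀ w : Fin (r + 1) → R, Fintype.linearCombination S (mnr (φ.map e.toRingHom)) (fun i => e (w i)) =
      e (Fintype.linearCombination R (mnr φ) w) := fun w => by
    simp only [Fintype.linearCombination_apply, smul_eq_mul, map_sum]
    refine Finset.sum_congr rfl fun i _ => ?_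
    exact (congrArg (e (w i) * ·) (map_mnr e.toRingHom φ i).symm).trans (map_mul e _ _).symm
  refine ⟨fun v w hvw => ?_, le_antisymm ?_ fun w hw => ?_⟩
  · obtain ⟨v, rfl⟩ : ∃ v', (fun j => e (v' j)) = v := ⟨fun j => e.symm (v j), funext fun j => e.apply_symm_apply _⟩
    obtain ⟨w, rfl⟩ : ∃ w', (fun j => e (w' j)) = w := ⟨fun j => e.symm (w j), funext fun j => e.apply_symm_apply _⟩
    rw [hmv, hmv] at hvw
    rw [h.1 (funext fun i => e.injective (congrFun hvw i))]
  · rintro _ ⟨v, rfl⟩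
    obtain ⟨v, rfl⟩ : ∃ v', (fun j => e (v' j)) = v := ⟨fun j => e.symm (v j), funext fun j => e.apply_symm_apply _⟩
    rw [hmv, LinearMap.mem_ker, hlc, LinearMap.mem_ker.1 (h.2.le ⟨v, rfl⟩), map_zero]
  · obtain ⟨w, rfl⟩ : ∃ w', (fun i => e (w' i)) = w := ⟨fun i => e.symm (w i), funext fun i => e.apply_symm_apply _⟩
    rw [LinearMap.mem_ker, hlc, map_eq_zero_iff _ e.injective] at hw
    obtain ⟨v, rfl⟩ := h.2.ge (LinearMap.mem_ker.2 hw)
    exact ⟨_, hmv v⟩

section Square

variable {C' C : Type u} [CommRing C'] [CommRing C] [IsLocalRing C'] [IsArtinianRing C'] (p : C' →+* C)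
  (hps : Function.Surjective p) (hmk : IsLocalRing.maximalIdeal C' * RingHom.ker p = ⊥) (hne : RingHom.ker p ≠ ⊤)
  {A' A : Type u} [CommRing A'] [CommRing A] [Algebra C' A'] [Module.Flat C' A'] [Algebra.FiniteType C' A']
  [Algebra.Smooth (C' ⧸ IsLocalRing.maximalIdeal C') (A' ⧸ (IsLocalRing.maximalIdeal C').map (algebraMap C' A'))]
  (π : A' →+* A) (hπs : Function.Surjective π) (hker : RingHom.ker π = (RingHom.ker p).map (algebraMap C' A'))
  (β : C →+* A) (hcomm : ∀ c, π (algebraMap C' A' c) = β (p c))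

/-- The quotient identification. -/
noncomputable def sqEquiv : (A' ⧸ (RingHom.ker p).map (algebraMap C' A')) ≃+* A :=
  (Ideal.quotEquivOfEq hker.symm).trans (RingHom.quotientKerEquivOfSurjective hπs)

theorem sqEquiv_comp_mk : (sqEquiv p π hπs hker).toRingHom.comp (Ideal.Quotient.mk _) = π :=
  RingHom.ext fun _ => rfl

include hps hcomm in
theorem flat_reduce {Φ : Matrix (Fin (r + 1)) (Fin r) (A' ⧸ (RingHom.ker p).map (algebraMap C' A'))}
    (hfl : ((Ideal.Quotient.mk (mnrIdeal (Φ.map (sqEquiv p π hπs hker).toRingHom))).comp β).Flat) :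
    Module.Flat (C' ⧸ RingHom.ker p) ((A' ⧸ (RingHom.ker p).map (algebraMap C' A')) ⧸ mnrIdeal Φ) := by
  let e := sqEquiv p π hπs hker
  let eC : (C' ⧸ RingHom.ker p) ≃+* C := RingHom.quotientKerEquivOfSurjective hps
  let eA : ((A' ⧸ (RingHom.ker p).map (algebraMap C' A')) ⧸ mnrIdeal Φ) ≃+* A ⧸ mnrIdeal (Φ.map e.toRingHom) :=
    Ideal.quotientEquiv _ _ e (map_mnrIdeal e.toRingHom Φ).symm
  have h1 := RingHom.Flat.respectsIso.2 _ eC hfl
  have h2 := RingHom.Flat.respectsIso.1 _ eA.symm h1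
  refine RingHom.flat_algebraMap_iff.1 ?_
  convert h2 using 1
  refine RingHom.ext fun c => ?_
  obtain ⟨c, rfl⟩ := Ideal.Quotient.mk_surjective c
  refine eA.injective ?_
  show eA _ = eA (eA.symm _)
  rw [RingEquiv.apply_symm_apply]
  show Ideal.Quotient.mk _ (π (algebraMap C' A' c)) = Ideal.Quotient.mk _ (β (p c))
  rw [hcomm]

include hps hmk hne hπs hker hcomm in
/-- Every lift of an exact determinantal presentation is one, with flat quotient. -/
theorem isHB_lift {Φ' : Matrix (Fin (r + 1)) (Fin r) A'} (h : IsHB (Φ'.map π))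
    (hfl : ((Ideal.Quotient.mk (mnrIdeal (Φ'.map π))).comp β).Flat) :
    IsHB Φ' ∧ Module.Flat C' (A' ⧸ mnrIdeal Φ') := by
  let e := sqEquiv p π hπs hker
  have hmm : (Φ'.map (Ideal.Quotient.mk ((RingHom.ker p).map (algebraMap C' A')))).map e.toRingHom = Φ'.map π := rfl
  have h1 := h.map_equiv e.symm
  rw [← hmm, Matrix.map_map, show (⇑e.symm.toRingHom ∘ ⇑e.toRingHom : _ → _) = id from
    funext e.symm_apply_apply, Matrix.map_id] at h1
  haveI := flat_reduce p hps π hπs hker β hcomm (Φ := Φ'.map (Ideal.Quotient.mk _)) (hmm ▸ hfl)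
  obtain ⟨a, b, c⟩ := Groth.Agent.S11457.result C' (RingHom.ker p) hmk hne A' r Φ' h1
  exact ⟨⟨a, b⟩, c⟩

include hps hmk hne hπs hker hcomm in
/-- A flat lift of a determinantal ideal of codimension two is determinantal. -/
theorem exists_isHB_lift {Φ : Matrix (Fin (r + 1)) (Fin r) A} (h : IsHB Φ)
    (hfl : ((Ideal.Quotient.mk (mnrIdeal Φ)).comp β).Flat)
    (hcodim : ∀ P : Ideal A, P.IsPrime → mnrIdeal Φ ≤ P → (2 : ℕ∞) ≤ P.height)
    (I' : Ideal A') [Module.Flat C' (A' ⧸ I')] (hI' : I'.map π = mnrIdeal Φ) :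
    ∃ Φ' : Matrix (Fin (r + 1)) (Fin r) A', Φ'.map π = Φ ∧ IsHB Φ' ∧ I' = mnrIdeal Φ' := by
  let e := sqEquiv p π hπs hker
  let Ψ := Φ.map e.symm.toRingHom
  have hΨ : Ψ.map e.toRingHom = Φ := by
    rw [Matrix.map_map, show (⇑e.toRingHom ∘ ⇑e.symm.toRingHom : _ → _) = id from funext e.apply_symm_apply,
      Matrix.map_id]
  haveI := flat_reduce p hps π hπs hker β hcomm (Φ := Ψ) (hΨ.symm ▸ hfl)
  have hIe : I'.map (Ideal.Quotient.mk ((RingHom.ker p).map (algebraMap C' A'))) = mnrIdeal Ψ := by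
    rw [← map_mnrIdeal, ← hI', show π = e.toRingHom.comp (Ideal.Quotient.mk _) from
      (sqEquiv_comp_mk p π hπs hker).symm, Ideal.map_map, ← RingHom.comp_assoc,
      show e.symm.toRingHom.comp e.toRingHom = RingHom.id _ from RingHom.ext e.symm_apply_apply, RingHom.id_comp]
  obtain ⟨Φ', hΦ', hI⟩ := Groth.Agent.S11459.result C' (RingHom.ker p) hmk hne A' r Ψ (h.map_equiv e.symm)
    (fun P hP hle => by
      haveI := hP
      have hb : mnrIdeal Φ ≤ P.comap e.symm.toRingHom := by
        rw [← Ideal.map_le_iff_le_comap, map_mnrIdeal]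
        exact hle
      have := hcodim _ (Ideal.comap_isPrime e.symm.toRingHom P) hb
      rwa [show (P.comap e.symm.toRingHom) = P.comap e.symm from rfl, RingEquiv.height_comap] at this)
    I' hIe
  have hΦπ : Φ'.map π = Φ := by
    rw [← hΨ, ← hΦ', Matrix.map_map]
    rfl
  exact ⟨Φ', hΦπ, (isHB_lift p hps hmk hne π hπs hker β hcomm (hΦπ.symm ▸ h) (hΦπ.symm ▸ hfl)).1, hI⟩

end Square

end Groth.L14.LocHilbLift
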