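import Groth.Agent.L14.LocHilb.Lift.Setup

/-! # The preimage ideal as a module on `X` and the obstruction homomorphism -/

set_option autoImplicit false
set_option linter.style.haveILetI false
set_option linter.unusedSectionVars false
set_option backward.isDefEq.respectTransparency.types false
set_option backward.isDefEq.respectTransparency false

universe u

open CategoryTheory CategoryTheory.Limits AlgebraicGeometry TopologicalSpace Opposite ArtFun ArtFun.Art

noncomputable section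

namespace Groth.L14.LocHilbLift

open Groth.L18.Frame (rs ro rs_rs rs_smul ro_ro ro_self)
open Groth.L14.LocTriv (R rB red res vOf)
open Groth.L14.LocHilb (trivXA)

variable {k : Type u} [Field k] {B A : Art k k} {X : Scheme.{u}} (x : X ⟶ specPt k) {I₀ : X.IdealSheafData}
  (p : B ⟶ A) (I : (localHilb X x I₀).obj A)

instance isAffineHom_XAmap : IsAffineHom (XAmap x p) :=
  MorphismProperty.of_isPullback (P := @IsAffineHom) (isPullback_XAmap x p).flip inferInstance

instance isAffineHom_pr (A : Art k k) : IsAffineHom (pr x A) :=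
  MorphismProperty.pullback_fst (P := @IsAffineHom) _ _ inferInstance

/-- The restriction to `Y₀`. -/
abbrev toY (U : X.Opens) : Γ(X, U) →+* Γ(I₀.subscheme, I₀.subschemeι ⁻¹ᵁ U) := (I₀.subschemeι.app U).hom

theorem ideal_map_appLE {Z W : Scheme.{u}} (f : Z ⟶ W) [QuasiCompact f] (J : Z.IdealSheafData) (V : W.affineOpens)
    (U : Z.affineOpens) (e : f ⁻¹ᵁ V.1 = U.1) :
    (J.map f).ideal V = (J.ideal U).comap (f.appLE V.1 U.1 e.ge).hom := by
  obtain ⟨U, hU⟩ := U
  change f ⁻¹ᵁ V.1 = U at e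
  subst e
  rw [Scheme.IdealSheafData.ideal_map J f V hU, Scheme.Hom.app_eq_appLE]

/-- The preimage ideal sheaf. -/
abbrev PI : (trivXA (x := x) B).total.IdealSheafData := I.1.map (XAmap x p)

theorem PI_ideal (U : X.affineOpens) :
    (PI x p I).ideal ⟨vOf (trivXA (x := x) B) U.1, Groth.L14.LocTriv.isAffineOpen_vOf _ U⟩ = pid x p I U :=
  ideal_map_appLE (XAmap x p) I.1 ⟨_, Groth.L14.LocTriv.isAffineOpen_vOf _ U⟩
    ⟨vOf (trivXA (x := x) A) U.1, Groth.L14.LocTriv.isAffineOpen_vOf _ U⟩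
    (Groth.L14.LocTriv.eq_vOf _ (by
      rw [← Scheme.Hom.comp_preimage, show (trivXA (x := x) A).i ≫ XAmap x p = (trivXA (x := x) B).i from
        XAincl_XAmap x p, Groth.L14.LocTriv.preimage_vOf]))

/-- The preimage ideal as a module on `X`. -/
def PMod : X.Modules := (Scheme.Modules.pushforward (pr x B)).obj (ClSub.idealMod (PI x p I))

instance isQCoh_PMod : Coh.IsQCoh (PMod x p I) :=
  Groth.L16.QcqsPush.isQCoh_push (ClSub.idealMod (PI x p I)) (pr x B)

/-- Sections of the preimage ideal as functions. -/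
def sect (U : X.Opens) : Γ(PMod x p I, U) →+ R (trivXA (x := x) B) U :=
  AddMonoidHom.mk'
    (fun s => ((trivXA (x := x) B).total.presheaf.map (homOfLE (vOf_eq x B U).le).op).hom
      ((ClSub.idealModι (PI x p I)).app (pr x B ⁻¹ᵁ U) s))
    fun a b => (congrArg _ (map_add ((ClSub.idealModι (PI x p I)).app (pr x B ⁻¹ᵁ U)).hom a b)).trans (map_add _ _ _)

variable {x p I}

theorem sect_injective (U : X.Opens) : Function.Injective (sect x p I U) := by
  intro a b h
  refine (Groth.L18.IdealModule.exact_sections (PI x p I) (pr x B ⁻¹ᵁ U)).1 ?_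
  have h' : ro (vOf_eq x B U).ge (sect x p I U a) = ro (vOf_eq x B U).ge (sect x p I U b) := congrArg _ h
  simp only [sect, AddMonoidHom.mk'_apply] at h'
  exact (ro_self le_rfl _).symm.trans ((ro_ro _ _ _).symm.trans (h'.trans ((ro_ro _ _ _).trans (ro_self le_rfl _))))

theorem mem_ideal_iff_of_eq {Z : Scheme.{u}} (J : Z.IdealSheafData) {W W' : Z.Opens} (e : W = W')
    (hW : IsAffineOpen W) (z : Γ(Z, W)) :
    z ∈ J.ideal ⟨W, hW⟩ ↔ ∃ s : Γ(ClSub.idealMod J, W'),
      ro e.le (show Γ(Z, W') from (ClSub.idealModι J).app W' s) = z := by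
  subst e
  rw [Groth.L18.IdealModule.mem_ideal_iff J hW]
  exact ⟨fun ⟨m, hm⟩ => ⟨m, (ro_self le_rfl _).trans hm⟩, fun ⟨m, hm⟩ => ⟨m, (ro_self le_rfl _).symm.trans hm⟩⟩

theorem mem_pid_iff (U : X.affineOpens) (z : R (trivXA (x := x) B) U.1) :
    z ∈ pid x p I U ↔ ∃ s : Γ(PMod x p I, U.1), sect x p I U.1 s = z := by
  rw [← PI_ideal x p I U]
  exact mem_ideal_iff_of_eq (PI x p I) (vOf_eq x B U.1) _ z

theorem sect_mem (U : X.affineOpens) (s : Γ(PMod x p I, U.1)) : sect x p I U.1 s ∈ pid x p I U :=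
  (mem_pid_iff U _).2 ⟨s, rfl⟩

theorem sect_res {U U' : X.Opens} (h : U' ≤ U) (s : Γ(PMod x p I, U)) :
    sect x p I U' (rs (PMod x p I) h s) = res (trivXA (x := x) B) h (sect x p I U s) := by
  have h1 := congr($((Scheme.Modules.Hom.mapPresheaf (ClSub.idealModι (PI x p I))).naturality
    (homOfLE ((pr x B).preimage_mono h)).op) s)
  refine (congrArg _ h1).trans ((ro_ro _ _ _).trans (Eq.symm (ro_ro _ _ _)))

theorem sect_smul (U : X.Opens) (a : Γ(X, U)) (s : Γ(PMod x p I, U)) :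
    sect x p I U (a • s) = sec x B U a * sect x p I U s := by
  refine (congrArg (ro (vOf_eq x B U).le)
    (Scheme.Modules.Hom.app_smul (ClSub.idealModι (PI x p I)) ((pr x B).app U a) s)).trans ?_
  refine (map_mul ((trivXA (x := x) B).total.presheaf.map (homOfLE (vOf_eq x B U).le).op).hom _ _).trans ?_
  refine congrArg (· * _) ?_
  exact rfl

theorem red_sect_mem (U : X.affineOpens) (s : Γ(PMod x p I, U.1)) :
    red (trivXA (x := x) B) U.1 (sect x p I U.1 s) ∈ I₀.ideal U := red_mem (sect_mem U s)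

theorem toY_eq_zero_iff (U : X.affineOpens) (a : Γ(X, U.1)) : toY (I₀ := I₀) U.1 a = 0 ↔ a ∈ I₀.ideal U := by
  rw [← I₀.ker_subschemeι_app U]
  rfl

theorem idealSect_injective (U : X.Opens) : Function.Injective (OmegaSh.idealSect I₀ U) :=
  fun _ _ h => _root_.OmegaSh.idealModι_app_injective _ _ h

variable (x p I) in
theorem exists_redM : ∃ f : PMod x p I ⟶ ClSub.idealMod I₀, ∀ (U : X.affineOpens) (s : Γ(PMod x p I, U.1)),
    OmegaSh.idealSect I₀ U.1 (f.app U.1 s) = red (trivXA (x := x) B) U.1 (sect x p I U.1 s) := by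
  choose g hg using fun (U : X.affineOpens) (s : Γ(PMod x p I, U.1)) =>
    (Groth.L18.IdealModule.mem_ideal_iff I₀ U.2 _).1 (red_sect_mem U s)
  have hg' : ∀ U s, OmegaSh.idealSect I₀ U.1 (g U s) = red (trivXA (x := x) B) U.1 (sect x p I U.1 s) := hg
  let φ : ∀ U : X.Opens, IsAffineOpen U → (Γ(PMod x p I, U) →+ Γ(ClSub.idealMod I₀, U)) := fun U hU =>
    AddMonoidHom.mk' (g ⟨U, hU⟩) fun a b => idealSect_injective U (by
      rw [map_add (OmegaSh.idealSect I₀ U), hg' ⟨U, hU⟩, hg' ⟨U, hU⟩, hg' ⟨U, hU⟩, map_add, map_add])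
  refine Exists.elim (Groth.L16.AffineBC.exists_hom_affine φ ?_ ?_) fun f hf => ?_
  rotate_left 2
  · exact ⟨f, fun U s => (congrArg (OmegaSh.idealSect I₀ U.1) (hf U.1 U.2 s)).trans (hg' U s)⟩
  · intro U V hU hV h s
    refine idealSect_injective V ?_
    refine (hg' ⟨V, hV⟩ _).trans ?_
    rw [show OmegaSh.idealSect I₀ V ((ClSub.idealMod I₀).presheaf.map (homOfLE h).op (φ U hU s)) =
      ro h (OmegaSh.idealSect I₀ U (φ U hU s)) from
      congr($((Scheme.Modules.Hom.mapPresheaf (ClSub.idealModι I₀)).naturality (homOfLE h).op) (φ U hU s))]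
    rw [show OmegaSh.idealSect I₀ U (φ U hU s) = _ from hg' ⟨U, hU⟩ s, ← Groth.L14.LocTriv.red_res, ← sect_res h]
  · intro U hU a s
    refine idealSect_injective U ?_
    refine (hg' ⟨U, hU⟩ _).trans ?_
    rw [sect_smul, map_mul, red_sec, ← hg' ⟨U, hU⟩ s]
    exact (Scheme.Modules.Hom.app_smul (ClSub.idealModι I₀) a _).symm

variable (x p I) in
/-- The reduction. -/
def redM : PMod x p I ⟶ ClSub.idealMod I₀ := (exists_redM x p I).choose

theorem redM_spec (U : X.affineOpens) (s : Γ(PMod x p I, U.1)) :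
    OmegaSh.idealSect I₀ U.1 ((redM x p I).app U.1 s) = red (trivXA (x := x) B) U.1 (sect x p I U.1 s) :=
  (exists_redM x p I).choose_spec U s

theorem redM_eq_zero_iff (U : X.affineOpens) (s : Γ(PMod x p I, U.1)) :
    (redM x p I).app U.1 s = 0 ↔ red (trivXA (x := x) B) U.1 (sect x p I U.1 s) = 0 := by
  rw [← redM_spec U s]
  exact ⟨fun h => by rw [h, map_zero], fun h => idealSect_injective U.1 (by rw [h, map_zero])⟩

theorem redM_surjective {t : B} (hg : Gen p t) (U : X.affineOpens) :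
    Function.Surjective ((redM x p I).app U.1) := by
  intro b
  obtain ⟨z, hz, e⟩ := hg.exists_red_eq (I := I) (U := U)
    ((Groth.L18.IdealModule.mem_ideal_iff I₀ U.2 (OmegaSh.idealSect I₀ U.1 b)).2 ⟨b, rfl⟩)
  obtain ⟨s, rfl⟩ := (mem_pid_iff U z).1 hz
  exact ⟨s, idealSect_injective U.1 ((redM_spec U s).trans e)⟩

variable {t : B}

/-- The value on the kernel of the reduction. -/
def IsVal (t : B) (U : X.affineOpens) (s : Γ(PMod x p I, U.1)) (b : Γ(I₀.subscheme, I₀.subschemeι ⁻¹ᵁ U.1)) : Prop :=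
  ∃ r, sect x p I U.1 s - rB (trivXA (x := x) B) U.1 t * r ∈ mP x p I U ∧
    toY U.1 (red (trivXA (x := x) B) U.1 r) = b

theorem IsVal.unique (hg : Gen p t) {U : X.affineOpens} {s : Γ(PMod x p I, U.1)} {b b'}
    (h : IsVal t U s b) (h' : IsVal t U s b') : b = b' := by
  obtain ⟨r, hr, rfl⟩ := h
  obtain ⟨r', hr', rfl⟩ := h'
  rw [← sub_eq_zero, ← map_sub, ← map_sub]
  refine (toY_eq_zero_iff U _).2 (hg.mul_mem_mul (I := I) ?_)
  have h2 := sub_mem hr' hr
  rwa [sub_sub_sub_cancel_left, ← mul_sub] at h2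

theorem IsVal.add {U : X.affineOpens} {s s' : Γ(PMod x p I, U.1)} {b b'} (h : IsVal t U s b)
    (h' : IsVal t U s' b') : IsVal t U (s + s') (b + b') := by
  obtain ⟨r, hr, rfl⟩ := h
  obtain ⟨r', hr', rfl⟩ := h'
  refine ⟨r + r', ?_, by rw [map_add, map_add]⟩
  rw [map_add, mul_add, add_sub_add_comm]
  exact add_mem hr hr'

theorem IsVal.smul {U : X.affineOpens} {s : Γ(PMod x p I, U.1)} {b} (h : IsVal t U s b) (a : Γ(X, U.1)) :
    IsVal t U (a • s) (toY U.1 a * b) := by
  obtain ⟨r, hr, rfl⟩ := h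
  refine ⟨sec x B U.1 a * r, ?_, by rw [map_mul, red_sec, map_mul]⟩
  rw [sect_smul, mul_left_comm, ← mul_sub]
  exact Ideal.mul_mem_left _ _ hr

theorem IsVal.res {U U' : X.affineOpens} (h : U'.1 ≤ U.1) {s : Γ(PMod x p I, U.1)} {b} (hv : IsVal t U s b) :
    IsVal t U' (rs (PMod x p I) h s) (ro (Scheme.Hom.preimage_mono I₀.subschemeι h) b) := by
  obtain ⟨r, hr, rfl⟩ := hv
  refine ⟨Groth.L14.LocTriv.res (trivXA (x := x) B) h r, ?_, ?_⟩
  · rw [sect_res, ← Groth.L14.LocTriv.res_rB (trivXA (x := x) B) h, ← map_mul, ← map_sub]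
    exact res_mem_mP h hr
  · rw [Groth.L14.LocTriv.red_res]
    exact ConcreteCategory.congr_hom (I₀.subschemeι.naturality (homOfLE h).op) _

theorem redM_kerι (U : X.Opens) (m : Γ(kernel (redM x p I), U)) :
    (redM x p I).app U ((kernel.ι (redM x p I)).app U m) = 0 := by
  have h : (kernel.ι (redM x p I) ≫ redM x p I).app U m = (0 : kernel (redM x p I) ⟶ ClSub.idealMod I₀).app U m := by
    rw [kernel.condition]
  exact h

theorem red_kerι_eq_zero (U : X.affineOpens) (m : Γ(kernel (redM x p I), U.1)) :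
    red (trivXA (x := x) B) U.1 (sect x p I U.1 ((kernel.ι (redM x p I)).app U.1 m)) = 0 :=
  (redM_eq_zero_iff U _).1 (redM_kerι U.1 m)

variable (x p I) in
theorem exists_mu (hg : Gen p t) : ∃ f : kernel (redM x p I) ⟶ ClSub.quotMod I₀,
    ∀ (U : X.affineOpens) (m : Γ(kernel (redM x p I), U.1)),
      IsVal t U ((kernel.ι (redM x p I)).app U.1 m) (show Γ(I₀.subscheme, I₀.subschemeι ⁻¹ᵁ U.1) from f.app U.1 m) := by
  have hex : ∀ (U : X.affineOpens) (m : Γ(kernel (redM x p I), U.1)),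
      ∃ b, IsVal t U ((kernel.ι (redM x p I)).app U.1 m) b := fun U m => by
    obtain ⟨r, hr⟩ := hg.exists_sub_mem_mP (sect_mem U _) (red_kerι_eq_zero U m)
    exact ⟨_, r, hr, rfl⟩
  choose g hg' using hex
  let φ : ∀ U : X.Opens, IsAffineOpen U → (Γ(kernel (redM x p I), U) →+ Γ(ClSub.quotMod I₀, U)) := fun U hU =>
    AddMonoidHom.mk' (g ⟨U, hU⟩) fun a b => by
      refine IsVal.unique hg (hg' ⟨U, hU⟩ (a + b)) ?_
      rw [map_add ((kernel.ι (redM x p I)).app U).hom]
      exact (hg' ⟨U, hU⟩ a).add (hg' ⟨U, hU⟩ b)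
  refine Exists.elim (Groth.L16.AffineBC.exists_hom_affine φ ?_ ?_) fun f hf => ?_
  rotate_left 2
  · exact ⟨f, fun U m => by rw [hf U.1 U.2]; exact hg' U m⟩
  · intro U V hU hV h m
    refine IsVal.unique hg (hg' ⟨V, hV⟩ _) ?_
    have h1 := congr($((Scheme.Modules.Hom.mapPresheaf (kernel.ι (redM x p I))).naturality (homOfLE h).op) m)
    rw [show (kernel.ι (redM x p I)).app V ((kernel (redM x p I)).presheaf.map (homOfLE h).op m) =
      rs (PMod x p I) h ((kernel.ι (redM x p I)).app U m) from h1]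
    exact (hg' ⟨U, hU⟩ m).res (U' := ⟨V, hV⟩) h
  · intro U hU a m
    refine IsVal.unique hg (hg' ⟨U, hU⟩ _) ?_
    rw [Scheme.Modules.Hom.app_smul (kernel.ι (redM x p I)) a m]
    exact (hg' ⟨U, hU⟩ m).smul a

variable (x I) in
/-- The obstruction homomorphism. -/
def mu (hg : Gen p t) : kernel (redM x p I) ⟶ ClSub.quotMod I₀ := (exists_mu x p I hg).choose

theorem mu_spec (hg : Gen p t) (U : X.affineOpens) (m : Γ(kernel (redM x p I), U.1)) :
    IsVal t U ((kernel.ι (redM x p I)).app U.1 m)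
      (show Γ(I₀.subscheme, I₀.subschemeι ⁻¹ᵁ U.1) from (mu x I hg).app U.1 m) :=
  (exists_mu x p I hg).choose_spec U m

theorem mu_eq (hg : Gen p t) (U : X.affineOpens) (m : Γ(kernel (redM x p I), U.1))
    {b : Γ(I₀.subscheme, I₀.subschemeι ⁻¹ᵁ U.1)} (h : IsVal t U ((kernel.ι (redM x p I)).app U.1 m) b) :
    (show Γ(I₀.subscheme, I₀.subschemeι ⁻¹ᵁ U.1) from (mu x I hg).app U.1 m) = b :=
  IsVal.unique hg (mu_spec hg U m) h

end Groth.L14.LocHilbLift
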