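import Groth.Agent.L14.LocHilb.Lift.Mod

/-! # An extension of the obstruction homomorphism gives a lift -/

set_option autoImplicit false
set_option linter.style.haveILetI false
set_option linter.unusedSectionVars false
set_option backward.isDefEq.respectTransparency.types false
set_option backward.isDefEq.respectTransparency false

universe u

open CategoryTheory CategoryTheory.Limits AlgebraicGeometry TopologicalSpace Opposite ArtFun ArtFun.Art

noncomputable section

namespace Groth.L14.LocHilbLift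

open Groth.L18.Frame (rs ro rs_rs rs_smul ro_ro ro_self)
open Groth.L14.LocTriv (R rB red res vOf)
open Groth.L14.LocHilb (trivXA)

variable {k : Type u} [Field k] {B A : Art k k} {X : Scheme.{u}} {x : X ⟶ specPt k} {I₀ : X.IdealSheafData}
  {p : B ⟶ A} {t : B} {I : (localHilb X x I₀).obj A} {hg : Gen p t}
  (ψ : PMod x p I ⟶ ClSub.quotMod I₀)

/-- `ψ` on sections. -/
def val (U : X.Opens) (s : Γ(PMod x p I, U)) : Γ(I₀.subscheme, I₀.subschemeι ⁻¹ᵁ U) := ψ.app U s

theorem val_add (U : X.Opens) (s s' : Γ(PMod x p I, U)) : val ψ U (s + s') = val ψ U s + val ψ U s' :=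
  map_add (ψ.app U).hom s s'

theorem val_smul (U : X.Opens) (a : Γ(X, U)) (s : Γ(PMod x p I, U)) :
    val ψ U (a • s) = toY U a * val ψ U s := Scheme.Modules.Hom.app_smul ψ a s

theorem val_res {U U' : X.Opens} (h : U' ≤ U) (s : Γ(PMod x p I, U)) :
    val ψ U' (rs (PMod x p I) h s) = ro (Scheme.Hom.preimage_mono I₀.subschemeι h) (val ψ U s) :=
  congr($((Scheme.Modules.Hom.mapPresheaf ψ).naturality (homOfLE h).op) s)

variable {ψ} (hψ : kernel.ι (redM x p I) ≫ ψ = mu x I hg)

include hψ in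
theorem val_eq_of_isVal {U : X.affineOpens} (s : Γ(PMod x p I, U.1))
    (hs : red (trivXA (x := x) B) U.1 (sect x p I U.1 s) = 0) {b} (h : IsVal t U s b) : val ψ U.1 s = b := by
  obtain ⟨m, rfl⟩ : ∃ m, (kernel.ι (redM x p I)).app U.1 m = s :=
    ⟨_, _root_.OmegaSh.ι_kerLift (redM x p I) U.1 s ((redM_eq_zero_iff U s).2 hs)⟩
  refine Eq.trans ?_ (mu_eq hg U m h)
  exact congr($(hψ).app U.1 m)

include hψ in
theorem val_mul (U : X.affineOpens) (w : R (trivXA (x := x) B) U.1) (s s' : Γ(PMod x p I, U.1))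
    (h : sect x p I U.1 s' = w * sect x p I U.1 s) :
    val ψ U.1 s' = toY U.1 (red (trivXA (x := x) B) U.1 w) * val ψ U.1 s := by
  let a := red (trivXA (x := x) B) U.1 w
  have hsect : sect x p I U.1 (s' - a • s) = (w - sec x B U.1 a) * sect x p I U.1 s := by
    rw [map_sub, h, sect_smul, sub_mul]
  have hw : red (trivXA (x := x) B) U.1 (w - sec x B U.1 a) = 0 := by
    rw [map_sub, red_sec, sub_self]
  have h0 : val ψ U.1 (s' - a • s) = 0 := by
    refine val_eq_of_isVal hψ _ (by rw [hsect, map_mul, hw, zero_mul]) ⟨0, ?_, by rw [map_zero, map_zero]⟩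
    rw [mul_zero, sub_zero, hsect]
    exact Ideal.mul_mem_mul ((Groth.L14.LocTriv.red_eq_zero_iff _ U _).1 hw) (sect_mem U s)
  rw [show s' = (s' - a • s) + a • s from (sub_add_cancel _ _).symm, val_add, h0, zero_add, val_smul]

include hψ in
theorem val_t_mul (U : X.affineOpens) (r : R (trivXA (x := x) B) U.1) (s : Γ(PMod x p I, U.1))
    (h : sect x p I U.1 s = rB (trivXA (x := x) B) U.1 t * r) :
    val ψ U.1 s = toY U.1 (red (trivXA (x := x) B) U.1 r) := by
  refine val_eq_of_isVal hψ s ?_ ⟨r, by rw [h, sub_self]; exact zero_mem _, rfl⟩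
  rw [h, map_mul, Groth.L14.LocTriv.red_rB, hg.res_eq_zero, map_zero, zero_mul]

/-- The lifted ideal on an affine open of `X`. -/
def idealU (U : X.affineOpens) : Ideal (R (trivXA (x := x) B) U.1) where
  carrier := {z | ∃ s, sect x p I U.1 s = z ∧ val ψ U.1 s = 0}
  add_mem' := by
    rintro _ _ ⟨s, rfl, hs⟩ ⟨s', rfl, hs'⟩
    exact ⟨s + s', map_add _ s s', by rw [val_add, hs, hs', add_zero]⟩
  zero_mem' := ⟨0, map_zero _, map_zero (ψ.app U.1).hom⟩
  smul_mem' := by
    rintro w _ ⟨s, rfl, hs⟩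
    obtain ⟨s', hs'⟩ := (mem_pid_iff U _).1 (Ideal.mul_mem_left _ w (sect_mem U s))
    exact ⟨s', hs', by rw [val_mul hψ U w s s' hs', hs, mul_zero]⟩

theorem idealU_le (U : X.affineOpens) : idealU hψ U ≤ pid x p I U := by
  rintro _ ⟨s, rfl, -⟩
  exact sect_mem U s

theorem exists_sub_mem (U : X.affineOpens) {z : R (trivXA (x := x) B) U.1} (hz : z ∈ pid x p I U) :
    ∃ r, z - rB (trivXA (x := x) B) U.1 t * r ∈ idealU hψ U := by
  obtain ⟨s, rfl⟩ := (mem_pid_iff U z).1 hz
  obtain ⟨a, ha⟩ := Scheme.Hom.app_surjective I₀.subschemeι U.1 U.2 (val ψ U.1 s)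
  obtain ⟨r, rfl⟩ := Groth.L14.LocTriv.red_surjective (trivXA (x := x) B) U a
  obtain ⟨s', hs'⟩ := (mem_pid_iff (p := p) (I := I) U _).1 (hg.mul_mem (I := I) r)
  refine ⟨r, s - s', by rw [map_sub, hs'], ?_⟩
  have h1 : val ψ U.1 (s - s') + val ψ U.1 s' = val ψ U.1 s := by rw [← val_add, sub_add_cancel]
  rw [val_t_mul hψ U r s' hs', ha] at h1
  exact add_eq_right.1 h1

theorem t_mul_mem_idealU_iff (U : X.affineOpens) (r : R (trivXA (x := x) B) U.1) :
    rB (trivXA (x := x) B) U.1 t * r ∈ idealU hψ U ↔ red (trivXA (x := x) B) U.1 r ∈ I₀.ideal U := by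
  rw [← toY_eq_zero_iff U]
  constructor
  · rintro ⟨s, hs, h0⟩
    rwa [val_t_mul hψ U r s hs] at h0
  · intro h
    obtain ⟨s, hs⟩ := (mem_pid_iff (p := p) (I := I) U _).1 (hg.mul_mem (I := I) r)
    exact ⟨s, hs, (val_t_mul hψ U r s hs).trans h⟩

/-- The opens of `X` below an affine open of the deformation. -/
abbrev below (V : (trivXA (x := x) B).total.affineOpens) : X.affineOpens :=
  ⟨(trivXA (x := x) B).i ⁻¹ᵁ V.1,
    haveI := Groth.L14.DefLift.isClosedImmersion_i (trivXA (x := x) B)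
    V.2.preimage (trivXA (x := x) B).i⟩

theorem vOf_below_le (V : (trivXA (x := x) B).total.affineOpens) :
    vOf (trivXA (x := x) B) (below V).1 ≤ V.1 :=
  (Groth.L14.LocTriv.eq_vOf (trivXA (x := x) B) rfl).ge

theorem le_vOf_below (V : (trivXA (x := x) B).total.affineOpens) :
    V.1 ≤ vOf (trivXA (x := x) B) (below V).1 :=
  (Groth.L14.LocTriv.eq_vOf (trivXA (x := x) B) rfl).le

/-- Transport to the ring over the open below. -/
abbrev tr (V : (trivXA (x := x) B).total.affineOpens) :
    Γ((trivXA (x := x) B).total, V.1) →+* R (trivXA (x := x) B) (below V).1 :=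
  ((trivXA (x := x) B).total.presheaf.map (homOfLE (vOf_below_le V)).op).hom

theorem tr_bijective (V : (trivXA (x := x) B).total.affineOpens) : Function.Bijective (tr V) :=
  ⟨fun a b h => (ro_self le_rfl a).symm.trans ((ro_ro (vOf_below_le V) (le_vOf_below V) a).symm.trans
    ((congrArg (ro (le_vOf_below V)) h).trans ((ro_ro _ _ b).trans (ro_self le_rfl b)))),
    fun z => ⟨ro (le_vOf_below V) z, (ro_ro _ _ z).trans (ro_self le_rfl z)⟩⟩

/-- The lifted ideal sheaf. -/
def lift : (trivXA (x := x) B).total.IdealSheafData where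
  ideal V := (idealU hψ (below V)).comap (tr V)
  map_ideal_basicOpen V f := by
    let W : (trivXA (x := x) B).total.affineOpens := ⟨(trivXA (x := x) B).total.basicOpen f, V.2.basicOpen f⟩
    have hle : W.1 ≤ V.1 := (trivXA (x := x) B).total.basicOpen_le f
    have hb : (below W).1 ≤ (below V).1 := Scheme.Hom.preimage_mono _ hle
    have hnat : ∀ z, tr W (ro hle z) = res (trivXA (x := x) B) hb (tr V z) := fun z =>
      (ro_ro _ _ z).trans (ro_ro _ _ z).symm
    refine le_antisymm (Ideal.map_le_iff_le_comap.mpr fun z hz => ?_) fun z hz => ?_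
    · obtain ⟨s, hs, h0⟩ := hz
      show tr W (ro hle z) ∈ idealU hψ (below W)
      exact ⟨rs (PMod x p I) hb s, by rw [sect_res, hs, hnat], (by rw [val_res, h0]; exact map_zero _)⟩
    · let g : Γ(I₀.subscheme, I₀.subschemeι ⁻¹ᵁ (below V).1) :=
        toY (below V).1 (red (trivXA (x := x) B) (below V).1 (tr V f))
      let hle' := Scheme.Hom.preimage_mono I₀.subschemeι hb
      letI := (I₀.subscheme.presheaf.map (homOfLE hle').op).hom.toAlgebra
      haveI : IsLocalization.Away g Γ(I₀.subscheme, I₀.subschemeι ⁻¹ᵁ (below W).1) := by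
        refine ((below V).2.preimage I₀.subschemeι).isLocalization_of_eq_basicOpen g (homOfLE hle') ?_
        have h1 : red (trivXA (x := x) B) (below V).1 (tr V f) = (trivXA (x := x) B).i.app V.1 f := by
          rw [Scheme.Hom.app_eq_appLE]
          exact ConcreteCategory.congr_hom (Scheme.Hom.map_appLE (trivXA (x := x) B).i _ _) f
        show I₀.subschemeι ⁻¹ᵁ ((trivXA (x := x) B).i ⁻¹ᵁ (trivXA (x := x) B).total.basicOpen f) =
          I₀.subscheme.basicOpen (toY (below V).1 (red (trivXA (x := x) B) (below V).1 (tr V f)))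
        rw [h1, Scheme.preimage_basicOpen, Scheme.preimage_basicOpen]
      obtain ⟨s, hs, h0⟩ : ∃ s : Γ(PMod x p I, (below W).1),
          sect x p I (below W).1 s = tr W z ∧ val ψ (below W).1 s = 0 := hz
      have hP : z ∈ (PI x p I).ideal W := by
        have h2 : tr W z ∈ pid x p I (below W) := hs ▸ sect_mem (below W) s
        rw [← PI_ideal x p I (below W)] at h2
        have h3 := (PI x p I).ideal_le_comap_ideal (U := W)
          (V := ⟨vOf (trivXA (x := x) B) (below W).1, Groth.L14.LocTriv.isAffineOpen_vOf _ _⟩)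
          (show W.1 ≤ vOf (trivXA (x := x) B) (below W).1 from le_vOf_below W) h2
        rw [Ideal.mem_comap] at h3
        exact ((ro_ro (vOf_below_le W) (le_vOf_below W) z).trans (ro_self le_rfl z)) ▸ h3
      rw [← (PI x p I).map_ideal (U := W) (V := V) hle] at hP
      letI := ((trivXA (x := x) B).total.presheaf.map (homOfLE hle).op).hom.toAlgebra
      haveI := V.2.isLocalization_basicOpen f
      obtain ⟨⟨⟨z₁, hz₁⟩, ⟨_, n, rfl⟩⟩, hn⟩ :=
        (IsLocalization.mem_map_algebraMap_iff (Submonoid.powers f) _).1 hP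
      replace hn : z * ro hle (f ^ n) = ro hle z₁ := hn
      have hz₁' : tr V z₁ ∈ pid x p I (below V) := by
        rw [← PI_ideal x p I (below V)]
        exact (PI x p I).ideal_le_comap_ideal
          (U := ⟨vOf (trivXA (x := x) B) (below V).1, Groth.L14.LocTriv.isAffineOpen_vOf _ _⟩) (V := V)
          (show vOf (trivXA (x := x) B) (below V).1 ≤ V.1 from vOf_below_le V) hz₁
      obtain ⟨s₁, hs₁⟩ := (mem_pid_iff (below V) _).1 hz₁'
      have h4 : sect x p I (below W).1 (rs (PMod x p I) hb s₁) = tr W (ro hle (f ^ n)) * sect x p I (below W).1 s := by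
        rw [sect_res, hs₁, hs, ← hnat, ← hn, map_mul, mul_comm]
      have h5 : ro hle' (val ψ (below V).1 s₁) = 0 := by
        rw [← val_res ψ hb, val_mul hψ (below W) _ s _ h4, h0, mul_zero]
      obtain ⟨⟨_, m, rfl⟩, hm⟩ := (IsLocalization.map_eq_zero_iff (Submonoid.powers g) _ _).mp h5
      obtain ⟨s₂, hs₂⟩ := (mem_pid_iff (below V) _).1
        (Ideal.mul_mem_left _ (tr V (f ^ m)) (sect_mem (p := p) (I := I) (below V) s₁))
      have hmem : f ^ m * z₁ ∈ (idealU hψ (below V)).comap (tr V) := by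
        refine ⟨s₂, by rw [hs₂, hs₁, ← map_mul], ?_⟩
        rw [val_mul hψ (below V) _ s₁ s₂ hs₂, map_pow, map_pow, map_pow]
        exact hm
      have h6 := Ideal.mem_map_of_mem ((trivXA (x := x) B).total.presheaf.map (homOfLE hle).op).hom hmem
      rw [map_mul] at h6
      have hu : ∀ j : ℕ, IsUnit (ro hle (f ^ j)) := fun j => by
        rw [show ro hle (f ^ j) = ro hle f ^ j from map_pow _ _ _]
        exact ((trivXA (x := x) B).total.toRingedSpace.isUnit_res_basicOpen f).pow j
      refine (Ideal.unit_mul_mem_iff_mem _ (hu n)).mp ?_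
      rw [mul_comm, hn]
      exact (Ideal.unit_mul_mem_iff_mem _ (hu m)).mp h6

theorem flat_idealU (U : X.affineOpens) :
    ((Ideal.Quotient.mk (idealU hψ U)).comp (rB (trivXA (x := x) B) U.1)).Flat := by
  let S := R (trivXA (x := x) A) U.1
  let T := R (trivXA (x := x) B) U.1
  letI : Algebra B T := (rB (trivXA (x := x) B) U.1).toAlgebra
  letI : Algebra A S := (rB (trivXA (x := x) A) U.1).toAlgebra
  letI : Algebra B A := p.toAlgHom.toRingHom.toAlgebra
  letI : Algebra B S := ((rB (trivXA (x := x) A) U.1).comp p.toAlgHom.toRingHom).toAlgebra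
  haveI : IsScalarTower B A S := IsScalarTower.of_algebraMap_eq fun _ => rfl
  haveI : Module.Flat A (S ⧸ IA x I U) := flat_IA x I U
  haveI : Module.Flat A (TensorProduct A A (S ⧸ IA x I U)) := Module.Flat.of_linearEquiv (TensorProduct.lid A _)
  haveI : Module.Free A (S ⧸ IA x I U) := Groth.L01.NilDescent.free_of_flat_baseChange
    (IsLocalRing.maximalIdeal A) (Groth.L12.isNilpotent_maximalIdeal A) A Function.injective_id _
  let πA : T →ₐ[B] S := { (π x p U).hom with commutes' := fun b => (π x p U).hom_rB b }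
  let g : (T ⧸ idealU hψ U) →ₐ[B] S ⧸ IA x I U :=
    Ideal.Quotient.liftₐ (idealU hψ U) ((Ideal.Quotient.mkₐ B (IA x I U)).comp πA)
      fun z hz => Ideal.Quotient.eq_zero_iff_mem.2 (idealU_le hψ U hz)
  have hfree : Module.Free B (T ⧸ idealU hψ U) := by
    refine free_of_small (IsLocalRing.maximalIdeal B) t hg.surj hg.ker hg.app_eq_zero hg.kill hg.mem
      g.toLinearMap ?_ ?_ ?_
    · intro y
      obtain ⟨y, rfl⟩ := Ideal.Quotient.mk_surjective y
      obtain ⟨z, rfl⟩ := π_surjective x p hg.surj U y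
      exact ⟨Ideal.Quotient.mk _ z, rfl⟩
    · intro z hz
      obtain ⟨z, rfl⟩ := Ideal.Quotient.mk_surjective z
      obtain ⟨r, hr⟩ := exists_sub_mem hψ U (z := z)
        (Ideal.mem_comap.2 ((Ideal.Quotient.eq_zero_iff_mem (I := IA x I U)).1 hz))
      refine ⟨Ideal.Quotient.mk _ r, ?_⟩
      rw [Algebra.smul_def]
      show Ideal.Quotient.mk _ z = Ideal.Quotient.mk _ (rB (trivXA (x := x) B) U.1 t) * _
      rw [← map_mul, Ideal.Quotient.eq]
      exact hr
    · intro z hz
      obtain ⟨r, rfl⟩ := Ideal.Quotient.mk_surjective z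
      rw [Algebra.smul_def] at hz
      have hz' : Ideal.Quotient.mk (idealU hψ U) (rB (trivXA (x := x) B) U.1 t * r) = 0 :=
        (map_mul _ _ _).trans hz
      obtain ⟨z, hz, e⟩ := hg.exists_red_eq (I := I) ((t_mul_mem_idealU_iff hψ U r).1
        (Ideal.Quotient.eq_zero_iff_mem.1 hz'))
      obtain ⟨r', hr'⟩ := exists_sub_mem hψ U hz
      rw [show Ideal.Quotient.mk (idealU hψ U) r = Ideal.Quotient.mk (idealU hψ U)
          ((r - z) + rB (trivXA (x := x) B) U.1 t * r') by
        rw [Ideal.Quotient.eq]; convert hr' using 1; ring]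
      rw [Ideal.smul_top_eq_map, Submodule.restrictScalars_mem]
      show _ ∈ (IsLocalRing.maximalIdeal B).map ((Ideal.Quotient.mk (idealU hψ U)).comp (rB (trivXA (x := x) B) U.1))
      rw [← Ideal.map_map]
      refine Ideal.mem_map_of_mem _ (add_mem ?_ (Ideal.mul_mem_right _ _ (Ideal.mem_map_of_mem _ hg.mem)))
      exact (Groth.L14.LocTriv.red_eq_zero_iff _ U _).1 (by rw [map_sub, e, sub_self])
  exact (inferInstance : Module.Flat B (T ⧸ idealU hψ U))

theorem flatOver_lift : FlatOver X x B (lift hψ) := by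
  unfold FlatOver
  refine IsZariskiLocalAtSource.of_openCover (P := @Flat) (lift hψ).subschemeCover.openCover fun V => ?_
  show Flat ((lift hψ).subschemeCover.f V ≫ (lift hψ).subschemeι ≫ XApr x B)
  rw [← Category.assoc, Scheme.IdealSheafData.subschemeCover_map_subschemeι]
  let J : Ideal Γ((trivXA (x := x) B).total, V.1) := (lift hψ).ideal V
  let φ : B →+* _ ⧸ J := (Ideal.Quotient.mk J).comp (Groth.L14.DefLift.baseS (trivXA (x := x) B) V.1)
  have e : Spec.map (CommRingCat.ofHom φ) =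
      Spec.map (CommRingCat.ofHom (Ideal.Quotient.mk J)) ≫ V.2.fromSpec ≫ XApr x B := by
    rw [← show Spec.map (CommRingCat.ofHom (Groth.L14.DefLift.baseS (trivXA (x := x) B) V.1)) =
      V.2.fromSpec ≫ XApr x B from Groth.L14.DefLift.specMap_baseS (trivXA (x := x) B) V.2, ← Spec.map_comp]
    rfl
  let q : (_ ⧸ J) →+* (R (trivXA (x := x) B) (below V).1 ⧸ idealU hψ (below V)) :=
    Ideal.quotientMap _ (tr V) le_rfl
  have hq : Function.Bijective q :=
    ⟨Ideal.quotientMap_injective, Ideal.quotientMap_surjective (tr_bijective V).2⟩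
  have hqφ : (RingEquiv.ofBijective q hq).toRingHom.comp φ =
      (Ideal.Quotient.mk (idealU hψ (below V))).comp (rB (trivXA (x := x) B) (below V).1) := by
    refine RingHom.ext fun b => ?_
    show q (Ideal.Quotient.mk J (Groth.L14.DefLift.baseS (trivXA (x := x) B) V.1 b)) = _
    rw [Ideal.quotientMap_mk]
    exact congrArg _ (Groth.L14.DefLift.ro_baseS (trivXA (x := x) B) (vOf_below_le V) b)
  have hflat : φ.Flat := by
    have h1 := RingHom.Flat.respectsIso.1 _ (RingEquiv.ofBijective q hq).symm (flat_idealU hψ (below V))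
    rwa [← hqφ, ← RingHom.comp_assoc, RingEquiv.toRingHom_eq_coe, RingEquiv.toRingHom_eq_coe,
      RingEquiv.symm_comp, RingHom.id_comp] at h1
  have := HasRingHomProperty.Spec_iff (P := @Flat) (φ := CommRingCat.ofHom φ) |>.mpr hflat
  rw [e] at this
  rwa [Category.assoc]

theorem lift_ideal (U : X.affineOpens) :
    (lift hψ).ideal ⟨vOf (trivXA (x := x) B) U.1, Groth.L14.LocTriv.isAffineOpen_vOf _ U⟩ = idealU hψ U := by
  let V : (trivXA (x := x) B).total.affineOpens := ⟨vOf (trivXA (x := x) B) U.1, Groth.L14.LocTriv.isAffineOpen_vOf _ U⟩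
  have hb : (below V).1 = U.1 := Groth.L14.LocTriv.preimage_vOf _ U.1
  have hn : ∀ z : R (trivXA (x := x) B) U.1, tr V z = res (trivXA (x := x) B) hb.le z := fun z => rfl
  refine Ideal.ext fun z => ⟨fun hz => ?_, fun hz => ?_⟩
  · obtain ⟨s, hs, h0⟩ := hz
    refine ⟨rs (PMod x p I) hb.ge s, ?_, (by rw [val_res, h0]; exact map_zero _)⟩
    rw [sect_res, hs, hn, Groth.L14.LocTriv.res_res, Groth.L14.LocTriv.res_self]
  · obtain ⟨s, hs, h0⟩ := hz
    exact ⟨rs (PMod x p I) hb.le s, by rw [sect_res, hs, hn], (by rw [val_res, h0]; exact map_zero _)⟩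

theorem comap_lift : (lift hψ).comap (XAmap x p) = I.1 := by
  refine Scheme.IdealSheafData.ext (funext fun W => ?_)
  let U : X.affineOpens := ⟨(trivXA (x := x) A).i ⁻¹ᵁ W.1,
    haveI := Groth.L14.DefLift.isClosedImmersion_i (trivXA (x := x) A)
    W.2.preimage (trivXA (x := x) A).i⟩
  have hW : W = ⟨vOf (trivXA (x := x) A) U.1, Groth.L14.LocTriv.isAffineOpen_vOf _ U⟩ :=
    Subtype.ext (Groth.L14.LocTriv.eq_vOf (trivXA (x := x) A) (V := W.1) (U := U.1) rfl)
  rw [hW]
  clear_value U
  clear hW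
  rw [Groth.L22.Ideals.comap_ideal (XAmap x p) (lift hψ) ⟨_, Groth.L14.LocTriv.isAffineOpen_vOf _ U⟩
    ⟨_, Groth.L14.LocTriv.isAffineOpen_vOf _ U⟩ (Groth.L14.DefLift.i_le_of_le (trivXA (x := x) A) (by
      rw [Groth.L14.LocTriv.preimage_vOf, ← Scheme.Hom.comp_preimage,
        show (trivXA (x := x) A).i ≫ XAmap x p = (trivXA (x := x) B).i from XAincl_XAmap x p,
        Groth.L14.LocTriv.preimage_vOf])), lift_ideal hψ U]
  show (idealU hψ U).map (π x p U).hom = IA x I U
  refine le_antisymm (Ideal.map_le_iff_le_comap.2 (idealU_le hψ U)) fun y hy => ?_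
  obtain ⟨z, rfl⟩ := π_surjective x p hg.surj U y
  obtain ⟨r, hr⟩ := exists_sub_mem hψ U (z := z) hy
  have := Ideal.mem_map_of_mem (π x p U).hom hr
  rwa [map_sub, hg.π_mul x r, sub_zero] at this

theorem exists_map_eq_of_psi (x : X ⟶ specPt k) {I : (localHilb X x I₀).obj A} (hg : Gen p t)
    (ψ : PMod x p I ⟶ ClSub.quotMod I₀) (hψ : kernel.ι (redM x p I) ≫ ψ = mu x I hg) :
    ∃ J : (localHilb X x I₀).obj B, (localHilb X x I₀).map p J = I := by
  refine ⟨⟨lift hψ, flatOver_lift hψ, ?_⟩, Subtype.ext (comap_lift hψ)⟩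
  rw [← XAincl_XAmap x p, Scheme.IdealSheafData.comap_comp, comap_lift hψ]
  exact I.2.2

end Groth.L14.LocHilbLift
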