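import Groth.Agent.L14.LocHilb.Lift.Free
import Groth.Agent.L14.LocHilb.Tangent
import Groth.Agent.L14.DefLift.LocTriv.Smooth
import Groth.Agent.L18.IdealModule
import Groth.Agent.L22.Ideal

/-! # Embedded deformations along a small extension: the preimage ideal -/

set_option autoImplicit false
set_option linter.style.haveILetI false
set_option linter.unusedSectionVars false
set_option backward.isDefEq.respectTransparency.types false
set_option backward.isDefEq.respectTransparency false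

universe u

open CategoryTheory CategoryTheory.Limits AlgebraicGeometry TopologicalSpace Opposite ArtFun ArtFun.Art

noncomputable section

namespace Groth.L14.LocHilbLift

open Groth.L18.Frame (rs ro rs_rs rs_smul ro_ro ro_self)
open Groth.L14.LocTriv (R rB red res vOf LocHom Spl)
open Groth.L14.LocHilb (trivXA)

variable {k : Type u} [Field k] {B A : Art k k}

/-- `t` generates the kernel of the small extension `p`. -/
structure Gen (p : B ⟶ A) (t : B) : Prop where
  surj : Function.Surjective p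
  app_eq_zero : p t = 0
  ker : ∀ b, p b = 0 → ∃ c, b = c * t
  kill : ∀ c ∈ IsLocalRing.maximalIdeal B, c * t = 0
  res_eq_zero : B.res t = 0
  ne_zero : t ≠ 0

theorem exists_gen {p : B ⟶ A} (hp : IsSmallExt p) : ∃ t, Gen p t := by
  obtain ⟨hs, hne, hprin, hm⟩ := hp
  obtain ⟨t, ht⟩ := hprin.principal
  have htK : t ∈ RingHom.ker p.toAlgHom := ht ▸ Submodule.mem_span_singleton_self t
  refine ⟨t, hs, htK, fun b hb => ?_, fun c hc => ?_, ?_, fun h => hne ?_⟩
  · have : b ∈ RingHom.ker p.toAlgHom := hb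
    rw [ht] at this
    obtain ⟨c, hc⟩ := Submodule.mem_span_singleton.1 this
    exact ⟨c, hc.symm⟩
  · have : c * t ∈ IsLocalRing.maximalIdeal B * RingHom.ker p.toAlgHom := Ideal.mul_mem_mul hc htK
    rwa [hm, Ideal.mem_bot] at this
  · exact (Art.res_app p t).symm.trans ((congrArg A.res htK).trans (map_zero A.res))
  · rw [ht, h, Submodule.span_singleton_eq_bot]

theorem Gen.mem {p : B ⟶ A} {t : B} (hg : Gen p t) : t ∈ IsLocalRing.maximalIdeal B :=
  (Art.mem_maximalIdeal_iff B t).2 hg.res_eq_zero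

variable {X : Scheme.{u}} (x : X ⟶ specPt k) {I₀ : X.IdealSheafData} (p : B ⟶ A)

/-- The projection to `X`. -/
abbrev pr (A : Art k k) : (trivXA (x := x) A).total ⟶ X := pullback.fst x (specOver A)

theorem preimage_i_pr (A : Art k k) (U : X.Opens) : (trivXA (x := x) A).i ⁻¹ᵁ (pr x A ⁻¹ᵁ U) = U := by
  rw [← Scheme.Hom.comp_preimage, show (trivXA (x := x) A).i ≫ pr x A = 𝟙 X from XAincl_fst x A]
  rfl

theorem vOf_eq (A : Art k k) (U : X.Opens) : vOf (trivXA (x := x) A) U = pr x A ⁻¹ᵁ U :=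
  (Groth.L14.LocTriv.eq_vOf _ (preimage_i_pr x A U)).symm

/-- The inclusion of functions of `X`. -/
def sec (A : Art k k) (U : X.Opens) : Γ(X, U) →+* R (trivXA (x := x) A) U :=
  ((pr x A).appLE U (vOf (trivXA (x := x) A) U) (vOf_eq x A U).le).hom

theorem red_sec (A : Art k k) (U : X.Opens) (a : Γ(X, U)) : red (trivXA (x := x) A) U (sec x A U a) = a := by
  have h1 : ∀ h h', (pr x A).appLE U (vOf (trivXA (x := x) A) U) h ≫ (trivXA (x := x) A).i.appLE _ U h' =
      ((trivXA (x := x) A).i ≫ pr x A).appLE U U (by rw [Scheme.Hom.comp_preimage]; exact h'.trans ((trivXA (x := x) A).i.preimage_mono h)) :=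
    fun _ _ => Scheme.Hom.appLE_comp_appLE _ _ _ _ _ _ _
  refine (ConcreteCategory.congr_hom (h1 _ _) a).trans
    ((Groth.L14.DefLift.appLE_congr_hom (XAincl_fst x A) _ le_rfl a).trans ?_)
  rw [Scheme.Hom.appLE]
  simp
  rfl

theorem sec_cU (A : Art k k) (U : X.Opens) (c : k) :
    sec x A U (Groth.L14.LocTriv.cU x U c) = rB (trivXA (x := x) A) U (algebraMap k A c) := by
  have h1 : x.appLE ⊤ U le_top ≫ (pr x A).appLE U (vOf (trivXA (x := x) A) U) (vOf_eq x A U).le =
      (pr x A ≫ x).appLE ⊤ (vOf (trivXA (x := x) A) U) le_top := Scheme.Hom.appLE_comp_appLE _ _ _ _ _ _ _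
  have hc : pr x A ≫ x = XApr x A ≫ specOver A := pullback.condition
  have h2 : (specOver A).appLE ⊤ ⊤ le_top ≫ (XApr x A).appLE ⊤ (vOf (trivXA (x := x) A) U) le_top =
      (XApr x A ≫ specOver A).appLE ⊤ (vOf (trivXA (x := x) A) U) le_top := Scheme.Hom.appLE_comp_appLE _ _ _ _ _ _ _
  refine (ConcreteCategory.congr_hom h1 _).trans ((Groth.L14.DefLift.appLE_congr_hom hc _ le_top _).trans ?_)
  refine (ConcreteCategory.congr_hom h2 _).symm.trans
    (congrArg ((XApr x A).appLE ⊤ (vOf (trivXA (x := x) A) U) le_top) ?_)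
  exact (Scheme.Hom.appLE_eq_app (specOver A) (U := ⊤)).symm ▸
    (ConcreteCategory.congr_hom (Scheme.ΓSpecIso_inv_naturality (CommRingCat.ofHom (algebraMap k A))) c).symm

theorem res_sec (A : Art k k) {U U' : X.Opens} (h : U' ≤ U) (a : Γ(X, U)) :
    res (trivXA (x := x) A) h (sec x A U a) = sec x A U' (ro h a) :=
  (ConcreteCategory.congr_hom (Scheme.Hom.appLE_map (pr x A) (vOf_eq x A U).le
    (homOfLE (Groth.L14.LocTriv.vOf_mono _ h)).op) a).trans
    (ConcreteCategory.congr_hom (Scheme.Hom.map_appLE (pr x A) (vOf_eq x A U').le (homOfLE h).op) a).symm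

/-- The canonical splitting. -/
def spl (A : Art k k) (U : X.affineOpens) : Spl (trivXA (x := x) A) U :=
  Groth.L14.LocTriv.splOf (sec x A U.1) (sec_cU x A U.1) (red_sec x A U.1)

/-- The reduction along `p`. -/
def π (U : X.affineOpens) : LocHom p (trivXA (x := x) B) (trivXA (x := x) A) U :=
  LocHom.ofHom (c := XAmap x p) (XAmap_snd x p) (XAincl_XAmap x p) U

theorem π_surjective (hs : Function.Surjective p) (U : X.affineOpens) : Function.Surjective (π x p U).hom :=
  Groth.L14.LocTriv.surjective_hom (spl x B U) _ hs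

theorem res_π {U U' : X.affineOpens} (h : U'.1 ≤ U.1) (r : R (trivXA (x := x) B) U.1) :
    res (trivXA (x := x) A) h ((π x p U).hom r) = (π x p U').hom (res (trivXA (x := x) B) h r) :=
  LocHom.ofHom_res _ _ h r

variable {p} {t : B}

theorem Gen.π_mul (hg : Gen p t) {U : X.affineOpens} (r : R (trivXA (x := x) B) U.1) :
    (π x p U).hom (rB (trivXA (x := x) B) U.1 t * r) = 0 := by
  rw [map_mul, (π x p U).hom_rB, hg.app_eq_zero, map_zero, zero_mul]

theorem Gen.exists_of_π_eq_zero (hg : Gen p t) {U : X.affineOpens} {r : R (trivXA (x := x) B) U.1}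
    (hr : (π x p U).hom r = 0) : ∃ s, r = rB (trivXA (x := x) B) U.1 t * s := by
  have h := Groth.L14.LocTriv.mem_map_of_hom_eq_zero (spl x B U) (π x p U) hr
  have hle : (RingHom.ker p.toAlgHom.toRingHom).map (rB (trivXA (x := x) B) U.1) ≤
      Ideal.span {rB (trivXA (x := x) B) U.1 t} := by
    rw [Ideal.map_le_iff_le_comap]
    intro b hb
    obtain ⟨c, rfl⟩ := hg.ker b hb
    rw [Ideal.mem_comap, map_mul]
    exact Ideal.mul_mem_left _ _ (Ideal.mem_span_singleton_self _)
  obtain ⟨s, hs⟩ := Ideal.mem_span_singleton'.1 (hle h)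
  exact ⟨s, by rw [← hs, mul_comm]⟩

theorem Gen.mul_eq_zero_iff (hg : Gen p t) {U : X.affineOpens} (r : R (trivXA (x := x) B) U.1) :
    rB (trivXA (x := x) B) U.1 t * r = 0 ↔ red (trivXA (x := x) B) U.1 r = 0 := by
  constructor
  · intro h
    refine (Groth.L14.LocTriv.red_eq_zero_iff _ U r).2 ?_
    exact Groth.L14.DefLift.mem_map_of_mul_mem (rB (trivXA (x := x) B) U.1) (Groth.L14.LocTriv.rB_flat _ U)
      (J := ⊥) (fun h => hg.ne_zero (Ideal.mem_bot.1 h)) (fun c hc => Ideal.mem_bot.2 (hg.kill c hc))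
      (by rw [Ideal.map_bot, Ideal.mem_bot]; exact h)
  · intro h
    rw [Groth.L14.LocTriv.mul_eq_of_red _ U hg.kill (r' := 0) (h.trans (map_zero _).symm), mul_zero]

variable (p) (I : (localHilb X x I₀).obj A)

/-- The ideal of `I` on an affine open. -/
def IA (U : X.affineOpens) : Ideal (R (trivXA (x := x) A) U.1) :=
  I.1.ideal ⟨vOf (trivXA (x := x) A) U.1, Groth.L14.LocTriv.isAffineOpen_vOf _ U⟩

theorem res_mem_IA {U U' : X.affineOpens} (h : U'.1 ≤ U.1) {r : R (trivXA (x := x) A) U.1} (hr : r ∈ IA x I U) :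
    res (trivXA (x := x) A) h r ∈ IA x I U' :=
  I.1.ideal_le_comap_ideal
    (U := (⟨vOf (trivXA (x := x) A) U'.1, Groth.L14.LocTriv.isAffineOpen_vOf _ U'⟩ : (trivXA (x := x) A).total.affineOpens))
    (V := (⟨vOf (trivXA (x := x) A) U.1, Groth.L14.LocTriv.isAffineOpen_vOf _ U⟩ : (trivXA (x := x) A).total.affineOpens))
    (show vOf (trivXA (x := x) A) U'.1 ≤ vOf (trivXA (x := x) A) U.1 from Groth.L14.LocTriv.vOf_mono _ h) hr

theorem ideal_I₀ (U : X.affineOpens) : I₀.ideal U = (IA x I U).map (red (trivXA (x := x) A) U.1) :=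
  (congrArg (fun J : X.IdealSheafData => J.ideal U) I.2.2).symm.trans
    (Groth.L22.Ideals.comap_ideal (XAincl x A) I.1 ⟨_, Groth.L14.LocTriv.isAffineOpen_vOf (trivXA (x := x) A) U⟩ U
      (Groth.L14.LocTriv.preimage_vOf (trivXA (x := x) A) U.1).ge)

theorem mem_I₀_iff (U : X.affineOpens) (a : Γ(X, U.1)) :
    a ∈ I₀.ideal U ↔ ∃ r ∈ IA x I U, red (trivXA (x := x) A) U.1 r = a := by
  rw [ideal_I₀ x I U]
  exact Ideal.mem_map_iff_of_surjective _ (Groth.L14.LocTriv.red_surjective _ U)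

/-- The preimage of `I`. -/
def pid (U : X.affineOpens) : Ideal (R (trivXA (x := x) B) U.1) := (IA x I U).comap (π x p U).hom

variable {x p I}

theorem red_mem {U : X.affineOpens} {z : R (trivXA (x := x) B) U.1} (hz : z ∈ pid x p I U) :
    red (trivXA (x := x) B) U.1 z ∈ I₀.ideal U :=
  (mem_I₀_iff x I U _).2 ⟨_, hz, (π x p U).red_hom z⟩

theorem Gen.exists_red_eq (hg : Gen p t) {U : X.affineOpens} {a : Γ(X, U.1)} (ha : a ∈ I₀.ideal U) :
    ∃ z ∈ pid x p I U, red (trivXA (x := x) B) U.1 z = a := by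
  obtain ⟨r, hr, hra⟩ := (mem_I₀_iff x I U a).1 ha
  obtain ⟨z, rfl⟩ := π_surjective x p hg.surj U r
  exact ⟨z, hr, ((π x p U).red_hom z).symm.trans hra⟩

theorem Gen.mul_mem (hg : Gen p t) {U : X.affineOpens} (r : R (trivXA (x := x) B) U.1) :
    rB (trivXA (x := x) B) U.1 t * r ∈ pid x p I U := by
  rw [pid, Ideal.mem_comap, hg.π_mul x r]
  exact zero_mem _

theorem res_mem_pid {U U' : X.affineOpens} (h : U'.1 ≤ U.1) {z : R (trivXA (x := x) B) U.1}
    (hz : z ∈ pid x p I U) : res (trivXA (x := x) B) h z ∈ pid x p I U' := by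
  rw [pid, Ideal.mem_comap, ← res_π x p h]
  exact res_mem_IA x I h hz

variable (x I) in
theorem flat_IA (U : X.affineOpens) :
    ((Ideal.Quotient.mk (IA x I U)).comp (rB (trivXA (x := x) A) U.1)).Flat := by
  let ξ := trivXA (x := x) A
  let V : (trivXA (x := x) A).total.affineOpens := ⟨vOf ξ U.1, Groth.L14.LocTriv.isAffineOpen_vOf ξ U⟩
  have h1 : Flat (I.1.subschemeι ≫ XApr x A) := I.2.1
  have h2 : Flat (I.1.subschemeCover.f V ≫ I.1.subschemeι ≫ XApr x A) := inferInstance
  rw [← Category.assoc, Scheme.IdealSheafData.subschemeCover_map_subschemeι] at h2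
  refine (HasRingHomProperty.Spec_iff (P := @Flat)
    (φ := CommRingCat.ofHom ((Ideal.Quotient.mk (IA x I U)).comp (rB ξ U.1)))).mp ?_
  have e : Spec.map (CommRingCat.ofHom ((Ideal.Quotient.mk (IA x I U)).comp (rB ξ U.1))) =
      Spec.map (CommRingCat.ofHom (Ideal.Quotient.mk (IA x I U))) ≫ V.2.fromSpec ≫ XApr x A := by
    rw [← show Spec.map (CommRingCat.ofHom (rB ξ U.1)) = V.2.fromSpec ≫ XApr x A from
      Groth.L14.DefLift.specMap_baseS ξ V.2, ← Spec.map_comp]
    rfl
  rw [e]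
  rw [Category.assoc] at h2
  exact h2

variable (x I) in
theorem exists_retract (U : X.affineOpens) :
    letI : Algebra A (R (trivXA (x := x) A) U.1) := (rB (trivXA (x := x) A) U.1).toAlgebra
    ∃ ρ : R (trivXA (x := x) A) U.1 →ₗ[A] R (trivXA (x := x) A) U.1,
      (∀ y, ρ y ∈ IA x I U) ∧ ∀ y ∈ IA x I U, ρ y = y := by
  letI : Algebra A (R (trivXA (x := x) A) U.1) := (rB (trivXA (x := x) A) U.1).toAlgebra
  let S := R (trivXA (x := x) A) U.1
  haveI : Module.Flat A (S ⧸ IA x I U) := flat_IA x I U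
  haveI : Module.Flat A (TensorProduct A A (S ⧸ IA x I U)) := Module.Flat.of_linearEquiv (TensorProduct.lid A _)
  haveI : Module.Free A (S ⧸ IA x I U) := Groth.L01.NilDescent.free_of_flat_baseChange
    (IsLocalRing.maximalIdeal A) (Groth.L12.isNilpotent_maximalIdeal A) A Function.injective_id _
  let q : S →ₗ[A] S ⧸ IA x I U := (Ideal.Quotient.mkₐ A (IA x I U)).toLinearMap
  obtain ⟨s, hs⟩ := Module.projective_lifting_property q LinearMap.id Ideal.Quotient.mk_surjective
  refine ⟨LinearMap.id - s.comp q, fun y => ?_, fun y hy => ?_⟩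
  · refine Ideal.Quotient.eq_zero_iff_mem.1 ?_
    show q (y - s (q y)) = 0
    rw [map_sub, show q (s (q y)) = q y from LinearMap.congr_fun hs (q y), sub_self]
  · show y - s (q y) = y
    rw [show q y = 0 from Ideal.Quotient.eq_zero_iff_mem.2 hy, map_zero, sub_zero]

/-- `m P`. -/
def mP (x : X ⟶ specPt k) (p : B ⟶ A) (I : (localHilb X x I₀).obj A) (U : X.affineOpens) :
    Ideal (R (trivXA (x := x) B) U.1) :=
  (IsLocalRing.maximalIdeal B).map (rB (trivXA (x := x) B) U.1) * pid x p I U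

theorem mP_le (U : X.affineOpens) : mP x p I U ≤ pid x p I U := Ideal.mul_le_right

theorem res_mem_mP {U U' : X.affineOpens} (h : U'.1 ≤ U.1) {z : R (trivXA (x := x) B) U.1}
    (hz : z ∈ mP x p I U) : res (trivXA (x := x) B) h z ∈ mP x p I U' := by
  have h1 := Ideal.mem_map_of_mem (res (trivXA (x := x) B) h) hz
  rw [mP, Ideal.map_mul, Ideal.map_map] at h1
  have h2 : (pid x p I U).map (res (trivXA (x := x) B) h) ≤ pid x p I U' :=
    Ideal.map_le_iff_le_comap.2 fun w hw => Ideal.mem_comap.2 (res_mem_pid h hw)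
  rw [show (res (trivXA (x := x) B) h).comp (rB (trivXA (x := x) B) U.1) = rB (trivXA (x := x) B) U'.1 from
    RingHom.ext (Groth.L14.LocTriv.res_rB _ h)] at h1
  exact Ideal.mul_mono le_rfl h2 h1

theorem Gen.exists_sub_mem_mP (hg : Gen p t) {U : X.affineOpens} {z : R (trivXA (x := x) B) U.1}
    (hz : z ∈ pid x p I U) (h0 : red (trivXA (x := x) B) U.1 z = 0) :
    ∃ r, z - rB (trivXA (x := x) B) U.1 t * r ∈ mP x p I U := by
  letI : Algebra A (R (trivXA (x := x) A) U.1) := (rB (trivXA (x := x) A) U.1).toAlgebra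
  obtain ⟨ρ, hρ, hρid⟩ := exists_retract x I U
  have key : ∀ y ∈ (IsLocalRing.maximalIdeal A).map (rB (trivXA (x := x) A) U.1),
      ∀ w, ∃ z' ∈ mP x p I U, (π x p U).hom z' = ρ (w * y) := by
    intro y hy
    refine Submodule.span_induction ?_ ?_ ?_ ?_ hy
    · rintro _ ⟨c, hc, rfl⟩ w
      obtain ⟨c', rfl⟩ := hg.surj c
      obtain ⟨v, hv⟩ := π_surjective x p hg.surj U (ρ w)
      have hc' : c' ∈ IsLocalRing.maximalIdeal B := by
        rw [Art.mem_maximalIdeal_iff]
        exact (Art.res_app p c').symm.trans ((Art.mem_maximalIdeal_iff A _).1 hc)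
      have hv' : v ∈ pid x p I U := by
        rw [pid, Ideal.mem_comap, hv]
        exact hρ w
      refine ⟨_, Ideal.mul_mem_mul (Ideal.mem_map_of_mem _ hc') hv', ?_⟩
      rw [map_mul, (π x p U).hom_rB, hv, mul_comm w]
      exact (map_smul ρ (p c') w).symm
    · exact fun w => ⟨0, zero_mem _, by rw [mul_zero, map_zero, map_zero]⟩
    · intro a b _ _ iha ihb w
      obtain ⟨u, hu, eu⟩ := iha w
      obtain ⟨v, hv, ev⟩ := ihb w
      exact ⟨u + v, add_mem hu hv, by rw [map_add, eu, ev, mul_add, map_add]⟩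
    · intro c a _ iha w
      obtain ⟨u, hu, eu⟩ := iha (w * c)
      exact ⟨u, hu, by rw [eu, smul_eq_mul, mul_assoc]⟩
  obtain ⟨z', hz', e⟩ := key _ ((Groth.L14.LocTriv.red_eq_zero_iff _ U _).1 (((π x p U).red_hom z).trans h0)) 1
  obtain ⟨r, hr⟩ := hg.exists_of_π_eq_zero x (r := z - z')
    (by rw [map_sub, e, one_mul, hρid _ hz, sub_self])
  exact ⟨r, by rwa [show z - rB (trivXA (x := x) B) U.1 t * r = z' by rw [← hr]; ring]⟩

theorem Gen.mul_mem_mul (hg : Gen p t) {U : X.affineOpens} {r : R (trivXA (x := x) B) U.1}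
    (h : rB (trivXA (x := x) B) U.1 t * r ∈ mP x p I U) :
    red (trivXA (x := x) B) U.1 r ∈ I₀.ideal U := by
  classical
  let S := R (trivXA (x := x) A) U.1
  let T := R (trivXA (x := x) B) U.1
  letI : Algebra B T := (rB (trivXA (x := x) B) U.1).toAlgebra
  letI : Algebra A S := (rB (trivXA (x := x) A) U.1).toAlgebra
  haveI : Module.Flat A S := Groth.L14.LocTriv.rB_flat _ U
  haveI : Module.Flat A (S ⧸ IA x I U) := flat_IA x I U
  let m := IsLocalRing.maximalIdeal A
  let IM : Submodule A S := (IA x I U).restrictScalars A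
  obtain ⟨ρ₀, hρ₀, hρid⟩ := exists_retract x I U
  let ρ : S →ₗ[A] IM := LinearMap.codRestrict IM ρ₀ hρ₀
  haveI : Module.Flat A IM := Module.Flat.of_retract IM.subtype ρ (LinearMap.ext fun y => Subtype.ext (hρid y.1 y.2))
  haveI : Module.Flat A (TensorProduct A A IM) := Module.Flat.of_linearEquiv (TensorProduct.lid A IM)
  haveI : Module.Free A IM :=
    Groth.L01.NilDescent.free_of_flat_baseChange m (Groth.L12.isNilpotent_maximalIdeal A) A Function.injective_id IM
  let e := Module.Free.chooseBasis A IM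
  choose E hE using fun i => π_surjective x p hg.surj U (e i : S)
  have hEmem : ∀ i, E i ∈ pid x p I U := fun i => by
    rw [pid, Ideal.mem_comap, hE]
    exact (e i).2
  let lin : (Module.Free.ChooseBasisIndex A IM →₀ B) →ₗ[B] T := Finsupp.linearCombination B E
  have hπlin : ∀ l, (π x p U).hom (lin l) =
      (Finsupp.linearCombination A e (l.mapRange p (map_zero p.toAlgHom)) : IM).1 := fun l => by
    simp only [lin, Finsupp.linearCombination_apply]
    rw [Finsupp.sum_mapRange_index fun i => zero_smul A (e i)]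
    simp only [Finsupp.sum, map_sum, AddSubmonoidClass.coe_finsetSum]
    refine Finset.sum_congr rfl fun i _ => ?_
    rw [Algebra.smul_def, map_mul, hE]
    exact congrArg (· * _) ((π x p U).hom_rB (l i))
  have hdec : ∀ z ∈ pid x p I U, ∃ l s, z = lin l + rB (trivXA (x := x) B) U.1 t * s := fun z hz => by
    obtain ⟨l, hl⟩ := Finsupp.mapRange_surjective p (map_zero p.toAlgHom) hg.surj (e.repr ⟨_, hz⟩)
    obtain ⟨s, hs⟩ := hg.exists_of_π_eq_zero x (r := z - lin l) (by
      rw [map_sub, hπlin, hl, e.linearCombination_repr, sub_self])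
    exact ⟨l, s, by rw [← hs, add_sub_cancel]⟩
  have key : ∀ y ∈ (IsLocalRing.maximalIdeal B).map (rB (trivXA (x := x) B) U.1) * pid x p I U,
      ∃ l, (∀ i, l i ∈ IsLocalRing.maximalIdeal B) ∧ y = lin l := by
    intro y hy
    refine Submodule.mul_induction_on hy (fun a ha z hz => ?_) fun y y' hy hy' => ?_
    · revert z
      refine Submodule.span_induction ?_ ?_ ?_ ?_ ha
      · rintro _ ⟨c, hc, rfl⟩ z hz
        obtain ⟨l, s, rfl⟩ := hdec z hz
        refine ⟨c • l, fun i => Ideal.mul_mem_right _ _ hc, ?_⟩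
        rw [map_smul, Algebra.smul_def, mul_add, ← mul_assoc _ (rB _ _ t), ← map_mul, hg.kill c hc, map_zero,
          zero_mul, add_zero]
        rfl
      · intro z _
        exact ⟨0, fun i => zero_mem _, by rw [zero_mul, map_zero]⟩
      · intro a b _ _ iha ihb z hz
        obtain ⟨l, hl, e₁⟩ := iha z hz
        obtain ⟨l', hl', e₂⟩ := ihb z hz
        exact ⟨l + l', fun i => add_mem (hl i) (hl' i), by rw [add_mul, e₁, e₂, map_add]⟩
      · intro c a _ iha z hz
        obtain ⟨l, hl, e₁⟩ := iha (c * z) (Ideal.mul_mem_left _ _ hz)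
        exact ⟨l, hl, by rw [← e₁, smul_eq_mul]; ring⟩
    · obtain ⟨l, hl, rfl⟩ := hy
      obtain ⟨l', hl', rfl⟩ := hy'
      exact ⟨l + l', fun i => add_mem (hl i) (hl' i), (map_add lin l l').symm⟩
  obtain ⟨l, -, hl⟩ := key _ h
  have hl0 : ∀ i, p (l i) = 0 := fun i => by
    have h1 := hπlin l
    rw [← hl, hg.π_mul x r, eq_comm, ← Submodule.coe_zero (p := IM), Subtype.coe_inj] at h1
    have h2 := congrArg e.repr h1
    rw [map_zero, e.repr_linearCombination] at h2
    exact DFunLike.congr_fun h2 i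
  choose c hc using fun i => hg.ker _ (hl0 i)
  let z : T := ∑ i ∈ l.support, rB (trivXA (x := x) B) U.1 (c i) * E i
  have hz : z ∈ pid x p I U := Ideal.sum_mem _ fun i _ => Ideal.mul_mem_left _ _ (hEmem i)
  have h2 : rB (trivXA (x := x) B) U.1 t * r = rB (trivXA (x := x) B) U.1 t * z := by
    rw [hl]
    simp only [lin, z, Finsupp.linearCombination_apply, Finsupp.sum, Finset.mul_sum]
    refine Finset.sum_congr rfl fun i _ => ?_
    rw [Algebra.smul_def, ← mul_assoc, ← map_mul, mul_comm t, ← hc i]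
    rfl
  have h3 := (hg.mul_eq_zero_iff x (r - z)).1 (by rw [mul_sub, h2, sub_self])
  rw [map_sub, sub_eq_zero] at h3
  exact h3 ▸ red_mem hz

end Groth.L14.LocHilbLift
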